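import Cfsg.Agent.E82.Mach.Main

/-!
# The pressure machine: the data for `Sp₆(2)` (helper38)
-/

set_option autoImplicit false
set_option maxRecDepth 100000

namespace Cfsg.Agent.E82.Mach.C3

/-- the simple module of weight `0`, dimension 1 -/
def G0 : List (List (ℕ × ℕ)) :=
  [[], [], [], [], [], [], [], [], [], [], [], []]

/-- a tree of words -/
def p0 : List (ℕ × ℕ) :=
  []

/-- a tree of words -/
def q0 : List (ℕ × ℕ) :=
  []

/-- the simple module of weight `1`, dimension 6 -/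
def G1 : List (List (ℕ × ℕ)) :=
  [[(0, 1), (4, 3)], [(1, 2), (5, 4)], [(2, 5)], [(0, 2), (5, 3)], [(1, 5), (2, 4)], [(0, 5), (2, 3)], [(1, 4)], [(0,
  4), (1, 3)], [(0, 3)], [(1, 0), (3, 4)], [(2, 1), (4, 5)], [(5, 2)]]

/-- a tree of words -/
def p1 : List (ℕ × ℕ) :=
  [(0, 0), (0, 3), (0, 5), (0, 7), (0, 8)]

/-- a tree of words -/
def q1 : List (ℕ × ℕ) :=
  [(0, 9), (1, 10), (2, 11), (3, 10), (4, 9)]

/-- the simple module of weight `2`, dimension 14 -/
def G2 : List (List (ℕ × ℕ)) :=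
  [[(5, 2), (6, 3), (8, 4), (11, 4), (11, 7), (12, 9), (13, 10)], [(0, 13), (2, 1), (4, 3), (7, 6), (8, 6), (9, 6),
  (9, 7), (9, 8), (12, 11)], [(3, 2), (6, 5), (10, 9), (13, 12)], [(0, 10), (5, 1), (7, 3), (9, 4), (11, 6), (12, 3),
  (12, 8)], [(0, 12), (3, 1), (4, 2), (7, 5), (8, 5), (10, 5), (10, 7), (10, 8), (13, 11)], [(0, 9), (6, 1), (7, 2),
  (10, 4), (11, 5), (13, 2), (13, 8)], [(0, 11), (4, 1), (9, 5), (10, 6)], [(0, 1), (0, 7), (8, 1), (9, 2), (10, 3),
  (12, 5), (13, 6)], [(0, 4), (11, 1), (12, 2), (13, 3)], [(2, 5), (3, 6), (4, 7), (4, 11), (8, 11), (9, 12), (10,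
  13)], [(1, 2), (3, 4), (6, 7), (6, 8), (6, 9), (7, 9), (8, 9), (11, 12), (13, 0)], [(2, 3), (5, 6), (9, 10), (12,
  13)]]

/-- a tree of words -/
def p2 : List (ℕ × ℕ) :=
  [(0, 1), (0, 3), (0, 4), (0, 5), (0, 6), (0, 7), (0, 8), (1, 5), (1, 7), (1, 8), (2, 4), (3, 3), (3, 7)]

/-- a tree of words -/
def q2 : List (ℕ × ℕ) :=
  [(0, 10), (1, 9), (1, 11), (2, 11), (3, 10), (4, 10), (5, 9), (6, 1), (6, 9), (6, 11), (7, 0), (9, 11), (12, 10)]

/-- the simple module of weight `3`, dimension 64 -/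
def G3 : List (List (ℕ × ℕ)) :=
  [[(0, 60), (5, 1), (7, 2), (8, 3), (9, 3), (12, 4), (13, 4), (21, 2), (21, 6), (22, 3), (22, 8), (22, 9), (23, 10),
  (24, 4), (24, 11), (25, 11), (26, 4), (26, 12), (26, 13), (27, 14), (28, 15), (29, 16), (30, 16), (32, 17), (34,
  18), (35, 19), (36, 19), (38, 20), (40, 20), (45, 4), (45, 11), (45, 13), (45, 24), (45, 25), (46, 16), (46, 29),
  (46, 30), (47, 17), (47, 31), (48, 18), (48, 33), (49, 19), (49, 35), (49, 36), (50, 37), (51, 20), (52, 20), (52,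
  39), (53, 38), (53, 40), (54, 20), (54, 41), (55, 42), (57, 43), (59, 44), (61, 20), (61, 38), (61, 51), (62, 43),
  (62, 56), (63, 44), (63, 58)], [(0, 63), (2, 1), (4, 3), (6, 5), (7, 5), (10, 5), (10, 6), (10, 7), (11, 8), (12,
  8), (13, 9), (14, 9), (16, 8), (16, 11), (16, 12), (17, 9), (17, 13), (17, 14), (19, 15), (20, 15), (20, 18), (23,
  21), (25, 22), (26, 22), (27, 22), (29, 24), (30, 22), (30, 25), (30, 26), (31, 22), (31, 25), (31, 27), (32, 22),
  (32, 26), (32, 27), (34, 28), (36, 28), (37, 22), (37, 25), (37, 26), (37, 27), (37, 30), (37, 31), (37, 32), (38,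
  28), (38, 33), (39, 33), (40, 35), (41, 28), (41, 34), (41, 36), (43, 28), (43, 33), (43, 34), (43, 38), (43, 39),
  (44, 42), (46, 45), (47, 45), (50, 45), (50, 46), (50, 47), (51, 48), (52, 48), (53, 49), (54, 49), (56, 48), (56,
  51), (56, 52), (57, 49), (57, 53), (57, 54), (58, 55), (59, 55), (60, 55), (60, 58), (60, 59), (62, 61)], [(3, 2),
  (8, 7), (9, 6), (9, 7), (12, 10), (15, 10), (15, 14), (18, 17), (19, 16), (22, 21), (26, 23), (28, 23), (28, 27),
  (33, 31), (34, 32), (35, 29), (36, 30), (39, 37), (41, 37), (42, 37), (42, 39), (42, 41), (44, 43), (48, 47), (49,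
  46), (52, 50), (54, 50), (55, 50), (55, 52), (55, 54), (58, 56), (59, 57), (63, 62)], [(0, 42), (0, 59), (6, 1),
  (10, 2), (11, 3), (14, 3), (16, 4), (17, 4), (21, 5), (23, 1), (23, 7), (24, 8), (25, 9), (27, 8), (29, 3), (29,
  12), (30, 13), (31, 3), (31, 11), (31, 14), (32, 12), (34, 15), (35, 15), (37, 4), (37, 16), (37, 17), (38, 18),
  (40, 18), (40, 19), (41, 18), (41, 19), (43, 20), (45, 22), (46, 9), (46, 26), (47, 8), (47, 24), (47, 27), (49,
  28), (50, 3), (50, 12), (50, 14), (50, 29), (50, 32), (51, 15), (51, 33), (52, 15), (53, 15), (53, 33), (53, 36),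
  (54, 34), (54, 35), (56, 18), (56, 39), (57, 18), (57, 19), (57, 39), (57, 40), (57, 41), (58, 42), (60, 44), (61,
  28), (61, 48), (62, 15), (62, 34), (62, 52), (63, 55)], [(0, 62), (3, 1), (4, 2), (8, 5), (11, 7), (12, 6), (13,
  6), (13, 7), (14, 6), (14, 7), (15, 5), (15, 9), (16, 10), (18, 6), (18, 7), (18, 13), (18, 14), (19, 7), (19, 11),
  (19, 12), (19, 14), (20, 10), (20, 17), (25, 21), (27, 21), (28, 22), (30, 23), (32, 23), (33, 21), (33, 25), (33,
  27), (34, 21), (34, 26), (35, 24), (36, 21), (36, 25), (36, 26), (36, 27), (38, 23), (38, 31), (39, 23), (39, 30),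
  (39, 32), (40, 29), (41, 31), (42, 21), (42, 25), (42, 26), (42, 33), (42, 34), (42, 36), (43, 37), (44, 23), (44,
  31), (44, 32), (44, 38), (44, 41), (48, 45), (49, 45), (51, 47), (52, 46), (53, 46), (54, 47), (55, 45), (55, 48),
  (55, 49), (56, 50), (57, 50), (58, 47), (58, 51), (58, 54), (59, 46), (59, 52), (59, 53), (60, 50), (60, 56), (60,
  57), (63, 61)], [(0, 37), (0, 57), (9, 1), (11, 2), (12, 2), (14, 2), (15, 3), (18, 4), (19, 4), (22, 5), (24, 7),
  (25, 6), (25, 7), (26, 7), (27, 7), (28, 1), (28, 8), (29, 10), (32, 10), (33, 2), (33, 11), (33, 14), (34, 12),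
  (34, 14), (35, 2), (35, 12), (35, 14), (36, 13), (38, 17), (39, 16), (39, 17), (40, 16), (40, 17), (42, 4), (42,
  18), (42, 19), (44, 20), (45, 21), (46, 23), (48, 7), (48, 24), (48, 27), (49, 6), (49, 7), (49, 26), (49, 27),
  (51, 10), (51, 31), (52, 29), (52, 32), (53, 10), (53, 30), (53, 31), (54, 10), (55, 2), (55, 12), (55, 34), (55,
  35), (56, 37), (58, 17), (58, 41), (59, 16), (59, 17), (59, 39), (59, 40), (59, 41), (60, 43), (61, 23), (61, 47),
  (62, 50), (63, 10), (63, 32), (63, 54)], [(0, 61), (4, 1), (11, 5), (16, 6), (17, 6), (17, 7), (18, 9), (19, 8),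
  (19, 9), (20, 5), (20, 13), (31, 21), (33, 22), (37, 23), (38, 25), (39, 26), (40, 24), (41, 26), (41, 27), (42,
  28), (43, 21), (43, 30), (44, 22), (44, 36), (51, 45), (53, 45), (56, 46), (57, 47), (58, 49), (59, 48), (60, 45),
  (60, 51), (60, 53)], [(0, 5), (0, 25), (0, 53), (11, 1), (12, 1), (13, 1), (17, 2), (18, 3), (20, 4), (24, 5), (25,
  5), (29, 6), (30, 6), (31, 6), (32, 6), (32, 7), (33, 8), (33, 9), (34, 9), (35, 8), (35, 9), (36, 8), (36, 9),
  (37, 10), (38, 11), (38, 13), (39, 1), (39, 12), (39, 13), (40, 1), (40, 11), (40, 13), (41, 1), (41, 12), (41,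
  13), (41, 14), (42, 15), (43, 2), (43, 16), (44, 3), (44, 19), (47, 21), (48, 22), (50, 23), (51, 24), (51, 25),
  (52, 5), (52, 26), (53, 5), (54, 5), (54, 26), (54, 27), (55, 28), (56, 6), (56, 29), (56, 30), (57, 6), (57, 7),
  (57, 30), (57, 31), (58, 8), (58, 9), (58, 35), (58, 36), (59, 9), (59, 33), (59, 36), (60, 1), (60, 11), (60, 38),
  (60, 40), (61, 45), (62, 21), (62, 46), (63, 22), (63, 49)], [(0, 4), (0, 40), (25, 1), (26, 1), (31, 2), (32, 2),
  (33, 3), (34, 3), (38, 4), (39, 4), (41, 4), (45, 5), (46, 6), (47, 7), (48, 8), (49, 8), (49, 9), (50, 10), (51,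
  11), (52, 12), (53, 11), (53, 13), (54, 12), (54, 14), (55, 15), (56, 16), (57, 16), (57, 17), (58, 19), (59, 18),
  (59, 19), (60, 20), (61, 1), (61, 24), (62, 2), (62, 29), (63, 3), (63, 35)], [(1, 5), (2, 6), (2, 21), (3, 8), (3,
  9), (3, 22), (4, 11), (4, 13), (4, 24), (4, 25), (4, 45), (7, 21), (8, 22), (9, 22), (10, 23), (11, 25), (12, 24),
  (12, 26), (12, 45), (13, 25), (13, 45), (14, 27), (15, 28), (16, 29), (16, 30), (16, 46), (17, 31), (17, 47), (18,
  33), (18, 48), (19, 35), (19, 36), (19, 49), (20, 38), (20, 51), (20, 61), (24, 45), (26, 45), (29, 46), (30, 46),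
  (32, 47), (34, 48), (35, 49), (36, 49), (37, 50), (38, 61), (39, 51), (39, 52), (40, 53), (40, 61), (41, 51), (41,
  54), (42, 55), (43, 56), (43, 62), (44, 58), (44, 63), (51, 61), (52, 61), (54, 61), (57, 62), (59, 63), (60, 0)],
  [(1, 2), (3, 4), (5, 6), (5, 7), (5, 10), (6, 10), (7, 10), (8, 11), (8, 12), (8, 16), (9, 13), (9, 14), (9, 17),
  (11, 16), (12, 16), (13, 17), (14, 17), (15, 18), (15, 20), (19, 20), (21, 23), (22, 25), (22, 26), (22, 27), (22,
  30), (22, 31), (22, 32), (22, 37), (24, 29), (25, 30), (25, 31), (25, 37), (26, 30), (26, 32), (26, 37), (27, 31),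
  (27, 32), (27, 37), (28, 33), (28, 34), (28, 38), (28, 39), (28, 43), (30, 37), (31, 37), (32, 37), (33, 39), (34,
  39), (34, 43), (35, 40), (36, 38), (36, 41), (36, 43), (38, 43), (41, 43), (42, 44), (45, 46), (45, 47), (45, 50),
  (46, 50), (47, 50), (48, 51), (48, 52), (48, 56), (49, 53), (49, 54), (49, 57), (51, 56), (52, 56), (53, 57), (54,
  57), (55, 58), (55, 59), (55, 60), (58, 60), (59, 60), (61, 62), (63, 0)], [(2, 3), (6, 8), (6, 9), (7, 8), (10,
  14), (10, 15), (12, 15), (16, 19), (17, 18), (21, 22), (23, 27), (23, 28), (26, 28), (29, 35), (30, 36), (31, 33),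
  (32, 34), (37, 39), (37, 41), (37, 42), (39, 42), (41, 42), (43, 44), (46, 49), (47, 48), (50, 52), (50, 54), (50,
  55), (52, 55), (54, 55), (56, 58), (57, 59), (62, 63)]]

/-- a tree of words -/
def p3 : List (ℕ × ℕ) :=
  [(0, 0), (0, 1), (0, 3), (0, 4), (0, 5), (0, 6), (0, 7), (0, 8), (1, 1), (1, 3), (1, 4), (1, 5), (1, 6), (1, 7),
  (1, 8), (2, 0), (2, 3), (2, 5), (2, 7), (2, 8), (3, 2), (3, 4), (3, 5), (3, 6), (3, 7), (3, 8), (4, 0), (4, 3), (4,
  5), (4, 7), (4, 8), (5, 1), (5, 6), (5, 7), (6, 0), (6, 7), (6, 8), (7, 8), (8, 9), (9, 2), (9, 4), (9, 5), (9, 6),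
  (9, 7), (9, 8), (10, 4), (10, 6), (10, 7), (11, 3), (11, 7), (11, 8), (12, 1), (12, 6), (12, 7), (13, 7), (13, 8),
  (14, 8), (16, 4), (16, 5), (16, 6), (16, 7), (18, 8), (21, 1)]

/-- a tree of words -/
def q3 : List (ℕ × ℕ) :=
  [(0, 9), (0, 10), (1, 10), (2, 9), (2, 11), (3, 1), (3, 9), (3, 11), (4, 0), (4, 11), (5, 10), (6, 11), (7, 11),
  (8, 2), (8, 10), (9, 11), (10, 10), (11, 9), (12, 10), (13, 2), (13, 10), (14, 10), (15, 1), (15, 9), (16, 10),
  (17, 1), (17, 9), (17, 11), (18, 0), (18, 10), (19, 9), (20, 10), (21, 1), (21, 9), (21, 11), (22, 9), (23, 9),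
  (24, 0), (24, 10), (25, 1), (25, 9), (25, 11), (26, 11), (27, 3), (27, 11), (28, 2), (30, 11), (31, 0), (32, 1),
  (32, 11), (33, 9), (34, 11), (37, 0), (39, 3), (39, 11), (41, 11), (45, 2), (45, 10), (47, 10), (52, 10), (55, 10),
  (56, 10), (57, 10)]

/-- the simple module of weight `4`, dimension 8 -/
def G4 : List (List (ℕ × ℕ)) :=
  [[(5, 3), (6, 4)], [(3, 2), (7, 6)], [(0, 7), (2, 1), (4, 3), (6, 5)], [(5, 2), (7, 4)], [(0, 5), (4, 1)], [(0, 3),
  (6, 1)], [(0, 6), (3, 1), (4, 2), (7, 5)], [(0, 2), (7, 1)], [(0, 4), (5, 1), (6, 2), (7, 3)], [(3, 5), (4, 6)],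
  [(2, 3), (6, 7)], [(1, 2), (3, 4), (5, 6), (7, 0)]]

/-- a tree of words -/
def p4 : List (ℕ × ℕ) :=
  [(0, 2), (0, 4), (0, 5), (0, 6), (0, 7), (0, 8), (1, 7)]

/-- a tree of words -/
def q4 : List (ℕ × ℕ) :=
  [(0, 11), (1, 10), (2, 9), (2, 11), (3, 11), (5, 10), (6, 11)]

/-- the simple module of weight `5`, dimension 48 -/
def G5 : List (List (ℕ × ℕ)) :=
  [[(0, 44), (5, 1), (6, 2), (12, 3), (14, 4), (21, 11), (22, 3), (23, 13), (24, 4), (25, 19), (27, 20), (29, 3),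
  (29, 12), (29, 22), (30, 4), (30, 14), (30, 24), (31, 15), (32, 16), (33, 17), (34, 18), (35, 19), (36, 26), (37,
  20), (38, 28), (45, 19), (45, 25), (45, 35), (46, 20), (46, 27), (46, 37), (47, 43)], [(3, 2), (7, 5), (9, 6), (11,
  8), (12, 6), (13, 10), (15, 6), (15, 9), (15, 12), (16, 10), (17, 14), (19, 10), (19, 13), (19, 16), (20, 18), (25,
  23), (26, 24), (31, 29), (33, 30), (35, 32), (36, 30), (37, 34), (39, 30), (39, 33), (39, 36), (40, 34), (41, 38),
  (43, 34), (43, 37), (43, 40), (44, 42), (47, 46)], [(0, 47), (2, 1), (4, 3), (6, 5), (8, 7), (9, 7), (10, 7), (10,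
  8), (10, 9), (13, 11), (14, 12), (16, 15), (17, 15), (18, 15), (18, 16), (18, 17), (20, 19), (23, 21), (24, 22),
  (27, 25), (28, 26), (30, 29), (32, 31), (33, 31), (34, 31), (34, 32), (34, 33), (37, 35), (38, 36), (40, 39), (41,
  39), (42, 39), (42, 40), (42, 41), (44, 43), (46, 45)], [(0, 42), (7, 1), (9, 2), (15, 3), (17, 4), (21, 8), (22,
  2), (23, 10), (25, 16), (26, 4), (27, 18), (29, 6), (31, 2), (31, 9), (31, 22), (32, 10), (33, 24), (35, 13), (36,
  14), (39, 4), (39, 17), (39, 26), (40, 18), (41, 28), (43, 20), (45, 10), (45, 23), (45, 32), (46, 34), (47, 18),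
  (47, 27), (47, 40)], [(0, 45), (4, 1), (8, 5), (10, 6), (11, 7), (13, 9), (14, 5), (16, 12), (17, 7), (18, 5), (18,
  8), (18, 14), (19, 15), (20, 7), (20, 11), (20, 17), (27, 21), (28, 22), (32, 29), (34, 30), (35, 31), (37, 33),
  (38, 29), (40, 36), (41, 31), (42, 29), (42, 32), (42, 38), (43, 39), (44, 31), (44, 35), (44, 41)], [(0, 15), (0,
  25), (0, 41), (8, 1), (10, 2), (16, 3), (18, 4), (21, 7), (23, 9), (24, 1), (25, 15), (27, 17), (28, 3), (30, 5),
  (32, 22), (33, 7), (34, 1), (34, 8), (34, 24), (37, 11), (38, 12), (40, 26), (41, 15), (42, 3), (42, 16), (42, 28),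
  (44, 19), (45, 31), (46, 7), (46, 21), (46, 33), (47, 39)], [(0, 46), (3, 1), (4, 2), (11, 5), (12, 5), (13, 6),
  (14, 6), (15, 7), (16, 8), (17, 9), (18, 10), (19, 5), (19, 11), (19, 12), (20, 6), (20, 13), (20, 14), (25, 21),
  (26, 22), (27, 23), (28, 24), (35, 29), (36, 29), (37, 30), (38, 30), (39, 31), (40, 32), (41, 33), (42, 34), (43,
  29), (43, 35), (43, 36), (44, 30), (44, 37), (44, 38), (47, 45)], [(0, 6), (0, 23), (0, 38), (11, 1), (13, 2), (19,
  3), (20, 4), (21, 5), (23, 6), (25, 12), (26, 1), (27, 14), (28, 2), (35, 22), (36, 5), (37, 24), (38, 6), (39, 7),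
  (40, 8), (41, 9), (42, 10), (43, 1), (43, 11), (43, 26), (44, 2), (44, 13), (44, 28), (45, 29), (46, 30), (47, 5),
  (47, 21), (47, 36)], [(0, 4), (0, 27), (0, 28), (21, 1), (22, 1), (23, 2), (24, 2), (25, 3), (26, 3), (27, 4), (28,
  4), (29, 5), (30, 6), (31, 7), (32, 8), (33, 9), (34, 10), (35, 11), (36, 12), (37, 13), (38, 14), (39, 15), (40,
  16), (41, 17), (42, 18), (43, 19), (44, 20), (45, 1), (45, 21), (45, 22), (46, 2), (46, 23), (46, 24), (47, 3),
  (47, 25), (47, 26)], [(1, 5), (2, 6), (3, 12), (3, 22), (3, 29), (4, 14), (4, 24), (4, 30), (11, 21), (12, 29),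
  (13, 23), (14, 30), (15, 31), (16, 32), (17, 33), (18, 34), (19, 25), (19, 35), (19, 45), (20, 27), (20, 37), (20,
  46), (22, 29), (24, 30), (25, 45), (26, 36), (27, 46), (28, 38), (35, 45), (37, 46), (43, 47), (44, 0)], [(2, 3),
  (5, 7), (6, 9), (6, 12), (6, 15), (8, 11), (9, 15), (10, 13), (10, 16), (10, 19), (12, 15), (13, 19), (14, 17),
  (16, 19), (18, 20), (23, 25), (24, 26), (29, 31), (30, 33), (30, 36), (30, 39), (32, 35), (33, 39), (34, 37), (34,
  40), (34, 43), (36, 39), (37, 43), (38, 41), (40, 43), (42, 44), (46, 47)], [(1, 2), (3, 4), (5, 6), (7, 8), (7,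
  9), (7, 10), (8, 10), (9, 10), (11, 13), (12, 14), (15, 16), (15, 17), (15, 18), (16, 18), (17, 18), (19, 20), (21,
  23), (22, 24), (25, 27), (26, 28), (29, 30), (31, 32), (31, 33), (31, 34), (32, 34), (33, 34), (35, 37), (36, 38),
  (39, 40), (39, 41), (39, 42), (40, 42), (41, 42), (43, 44), (45, 46), (47, 0)]]

/-- a tree of words -/
def p5 : List (ℕ × ℕ) :=
  [(0, 0), (0, 2), (0, 3), (0, 4), (0, 5), (0, 6), (0, 7), (0, 8), (1, 2), (1, 4), (1, 5), (1, 6), (1, 7), (1, 8),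
  (2, 3), (2, 5), (2, 7), (2, 8), (3, 2), (3, 4), (3, 5), (3, 6), (3, 7), (3, 8), (4, 0), (4, 3), (4, 5), (4, 7), (4,
  8), (5, 1), (5, 6), (5, 8), (5, 11), (6, 0), (6, 7), (6, 8), (7, 8), (9, 6), (9, 7), (10, 3), (10, 6), (10, 8),
  (11, 1), (11, 6), (12, 7), (15, 4), (16, 7)]

/-- a tree of words -/
def q5 : List (ℕ × ℕ) :=
  [(0, 9), (0, 11), (1, 10), (1, 11), (2, 10), (3, 11), (4, 10), (5, 9), (5, 11), (6, 2), (6, 10), (7, 1), (7, 9),
  (7, 11), (8, 0), (8, 11), (10, 10), (11, 1), (11, 9), (11, 11), (12, 11), (13, 11), (14, 2), (15, 11), (16, 10),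
  (17, 1), (17, 9), (17, 11), (18, 9), (19, 0), (19, 11), (22, 2), (22, 10), (24, 10), (25, 1), (25, 11), (27, 11),
  (30, 11), (31, 10), (32, 10), (33, 1), (33, 11), (34, 11), (35, 11), (36, 2), (39, 11), (40, 11)]

/-- the simple module of weight `6`, dimension 112 -/
def G6 : List (List (ℕ × ℕ)) :=
  [[(17, 3), (18, 4), (19, 5), (20, 6), (22, 8), (24, 10), (25, 11), (27, 12), (28, 13), (31, 14), (34, 15), (36,
  16), (41, 7), (42, 8), (42, 21), (43, 9), (44, 10), (44, 23), (45, 11), (46, 26), (47, 12), (48, 13), (49, 29),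
  (50, 30), (51, 14), (52, 32), (55, 15), (56, 15), (56, 33), (59, 16), (60, 16), (60, 35), (62, 37), (65, 38), (66,
  39), (68, 40), (73, 11), (73, 25), (73, 45), (74, 12), (74, 27), (74, 47), (75, 13), (75, 28), (75, 48), (76, 14),
  (76, 31), (76, 51), (77, 33), (78, 15), (78, 34), (78, 55), (79, 35), (80, 16), (80, 36), (80, 59), (81, 61), (82,
  37), (83, 63), (84, 64), (85, 38), (86, 39), (87, 67), (88, 40), (90, 70), (92, 72), (97, 15), (97, 33), (97, 55),
  (97, 56), (97, 77), (98, 16), (98, 35), (98, 59), (98, 60), (98, 79), (99, 37), (99, 62), (99, 82), (100, 38),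
  (100, 65), (100, 85), (101, 39), (101, 66), (101, 86), (102, 40), (102, 68), (102, 88), (103, 69), (104, 70), (104,
  89), (105, 71), (106, 72), (106, 91), (107, 93), (108, 94), (109, 95), (110, 96)], [(0, 110), (3, 1), (4, 2), (7,
  2), (8, 5), (10, 6), (11, 2), (11, 4), (11, 7), (12, 9), (13, 6), (15, 6), (15, 10), (15, 13), (16, 14), (21, 19),
  (22, 19), (23, 20), (24, 20), (25, 18), (26, 19), (26, 21), (26, 22), (28, 20), (29, 20), (29, 23), (29, 24), (33,
  20), (33, 23), (33, 28), (34, 20), (34, 24), (34, 28), (35, 31), (36, 31), (37, 20), (37, 23), (37, 24), (37, 28),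
  (37, 29), (37, 33), (37, 34), (38, 31), (38, 35), (38, 36), (39, 32), (45, 41), (46, 42), (47, 43), (49, 44), (53,
  50), (54, 43), (55, 48), (56, 44), (57, 52), (59, 51), (61, 43), (61, 47), (61, 54), (62, 44), (62, 49), (62, 56),
  (63, 58), (64, 51), (65, 60), (66, 52), (69, 52), (69, 57), (69, 66), (70, 51), (70, 59), (70, 64), (71, 68), (72,
  67), (77, 75), (78, 75), (79, 76), (80, 76), (81, 74), (82, 75), (82, 77), (82, 78), (84, 76), (85, 76), (85, 79),
  (85, 80), (89, 76), (89, 79), (89, 84), (90, 76), (90, 80), (90, 84), (91, 87), (92, 87), (93, 76), (93, 79), (93,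
  80), (93, 84), (93, 85), (93, 89), (93, 90), (94, 87), (94, 91), (94, 92), (95, 88), (99, 97), (100, 98), (103,
  101), (104, 98), (105, 102), (107, 98), (107, 100), (107, 104), (108, 106), (109, 102), (111, 102), (111, 105),
  (111, 109)], [(0, 111), (2, 1), (4, 3), (5, 3), (6, 3), (6, 4), (6, 5), (9, 7), (10, 8), (12, 11), (13, 11), (14,
  11), (14, 12), (14, 13), (16, 15), (18, 17), (19, 17), (20, 17), (20, 18), (20, 19), (23, 21), (24, 22), (27, 25),
  (28, 25), (29, 26), (30, 26), (31, 25), (31, 27), (31, 28), (32, 26), (32, 29), (32, 30), (35, 33), (36, 34), (38,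
  37), (39, 37), (40, 37), (40, 38), (40, 39), (43, 41), (44, 42), (47, 45), (48, 45), (49, 46), (50, 46), (51, 45),
  (51, 47), (51, 48), (52, 46), (52, 49), (52, 50), (57, 53), (58, 54), (59, 55), (60, 56), (63, 61), (64, 61), (65,
  62), (66, 62), (67, 61), (67, 63), (67, 64), (68, 62), (68, 65), (68, 66), (71, 69), (72, 70), (74, 73), (75, 73),
  (76, 73), (76, 74), (76, 75), (79, 77), (80, 78), (83, 81), (84, 81), (85, 82), (86, 82), (87, 81), (87, 83), (87,
  84), (88, 82), (88, 85), (88, 86), (91, 89), (92, 90), (94, 93), (95, 93), (96, 93), (96, 94), (96, 95), (98, 97),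
  (100, 99), (101, 99), (102, 99), (102, 100), (102, 101), (105, 103), (106, 104), (108, 107), (109, 107), (110,
  107), (110, 108), (110, 109)], [(0, 96), (17, 1), (18, 2), (21, 5), (23, 6), (25, 7), (26, 8), (27, 9), (29, 10),
  (33, 13), (35, 14), (37, 15), (38, 16), (41, 2), (42, 19), (44, 20), (45, 4), (46, 5), (46, 22), (48, 6), (49, 6),
  (49, 24), (53, 30), (54, 9), (55, 10), (56, 28), (57, 32), (60, 31), (61, 12), (62, 13), (62, 34), (64, 14), (65,
  14), (65, 36), (69, 39), (70, 16), (71, 40), (73, 2), (73, 18), (73, 41), (74, 43), (75, 20), (77, 6), (77, 23),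
  (77, 48), (78, 24), (79, 51), (81, 9), (81, 27), (81, 54), (82, 10), (82, 29), (82, 55), (83, 58), (84, 31), (85,
  59), (86, 32), (89, 14), (89, 35), (89, 64), (90, 36), (91, 67), (93, 16), (93, 38), (93, 70), (94, 72), (95, 40),
  (97, 20), (97, 44), (97, 75), (98, 76), (99, 6), (99, 24), (99, 48), (99, 49), (99, 78), (100, 51), (100, 80),
  (101, 52), (103, 32), (103, 57), (103, 86), (104, 31), (104, 60), (104, 84), (105, 88), (106, 87), (107, 14), (107,
  36), (107, 64), (107, 65), (107, 90), (108, 67), (108, 92), (109, 68), (111, 40), (111, 71), (111, 95)], [(0, 99),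
  (0, 103), (0, 108), (5, 1), (6, 2), (8, 3), (9, 1), (10, 4), (12, 3), (13, 7), (14, 1), (14, 5), (14, 9), (15, 11),
  (16, 3), (16, 8), (16, 12), (21, 17), (22, 17), (23, 18), (24, 18), (27, 17), (30, 17), (30, 21), (30, 22), (31,
  19), (32, 18), (32, 23), (32, 24), (33, 25), (34, 25), (35, 17), (35, 21), (35, 27), (36, 17), (36, 22), (36, 27),
  (38, 26), (39, 25), (39, 33), (39, 34), (40, 17), (40, 21), (40, 22), (40, 27), (40, 30), (40, 35), (40, 36), (48,
  41), (50, 42), (51, 43), (52, 44), (53, 46), (55, 45), (57, 49), (58, 41), (59, 47), (60, 42), (63, 45), (64, 54),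
  (65, 46), (66, 56), (67, 41), (67, 48), (67, 58), (68, 42), (68, 50), (68, 60), (69, 62), (70, 61), (71, 46), (71,
  53), (71, 65), (72, 45), (72, 55), (72, 63), (77, 73), (78, 73), (79, 74), (80, 74), (83, 73), (86, 73), (86, 77),
  (86, 78), (87, 75), (88, 74), (88, 79), (88, 80), (89, 81), (90, 81), (91, 73), (91, 77), (91, 83), (92, 73), (92,
  78), (92, 83), (94, 82), (95, 81), (95, 89), (95, 90), (96, 73), (96, 77), (96, 78), (96, 83), (96, 86), (96, 91),
  (96, 92), (101, 97), (102, 98), (103, 99), (105, 100), (106, 97), (108, 99), (109, 104), (110, 97), (110, 101),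
  (110, 106), (111, 107)], [(0, 37), (0, 69), (0, 94), (19, 1), (20, 2), (21, 3), (23, 4), (28, 7), (30, 8), (31, 9),
  (32, 10), (33, 11), (35, 12), (39, 15), (40, 16), (42, 17), (43, 1), (44, 18), (47, 3), (50, 3), (50, 22), (51, 5),
  (52, 4), (52, 24), (53, 26), (56, 25), (57, 29), (58, 7), (59, 8), (60, 27), (63, 11), (66, 11), (66, 34), (67,
  13), (68, 12), (68, 36), (69, 37), (71, 38), (72, 15), (74, 17), (75, 41), (76, 1), (76, 19), (76, 43), (77, 45),
  (79, 3), (79, 21), (79, 47), (80, 22), (83, 25), (84, 54), (85, 26), (86, 55), (87, 7), (87, 28), (87, 58), (88,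
  8), (88, 30), (88, 59), (89, 61), (91, 11), (91, 33), (91, 63), (92, 34), (94, 37), (95, 70), (96, 15), (96, 39),
  (96, 72), (97, 73), (98, 17), (98, 42), (98, 74), (100, 46), (101, 45), (101, 78), (102, 3), (102, 22), (102, 47),
  (102, 50), (102, 80), (103, 82), (104, 81), (105, 26), (105, 53), (105, 85), (106, 25), (106, 56), (106, 83), (108,
  62), (109, 61), (109, 90), (110, 11), (110, 34), (110, 63), (110, 66), (110, 92), (111, 93)], [(0, 98), (0, 105),
  (0, 106), (7, 1), (8, 1), (9, 2), (10, 2), (11, 3), (12, 4), (13, 5), (14, 6), (15, 1), (15, 7), (15, 8), (16, 2),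
  (16, 9), (16, 10), (25, 17), (26, 17), (27, 18), (28, 19), (29, 18), (30, 19), (31, 20), (32, 20), (33, 21), (34,
  22), (35, 23), (36, 24), (37, 17), (37, 25), (37, 26), (38, 18), (38, 27), (38, 29), (39, 19), (39, 28), (39, 30),
  (40, 20), (40, 31), (40, 32), (53, 42), (54, 41), (55, 41), (56, 42), (57, 44), (58, 43), (59, 43), (60, 44), (61,
  45), (62, 46), (63, 47), (64, 48), (65, 49), (66, 50), (67, 51), (68, 52), (69, 42), (69, 53), (69, 56), (70, 41),
  (70, 54), (70, 55), (71, 44), (71, 57), (71, 60), (72, 43), (72, 58), (72, 59), (81, 73), (82, 73), (83, 74), (84,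
  75), (85, 74), (86, 75), (87, 76), (88, 76), (89, 77), (90, 78), (91, 79), (92, 80), (93, 73), (93, 81), (93, 82),
  (94, 74), (94, 83), (94, 85), (95, 75), (95, 84), (95, 86), (96, 76), (96, 87), (96, 88), (103, 97), (104, 97),
  (105, 98), (106, 98), (107, 99), (108, 100), (109, 101), (110, 102), (111, 97), (111, 103), (111, 104)], [(0, 2),
  (0, 23), (0, 57), (0, 58), (0, 91), (22, 1), (24, 2), (26, 3), (29, 4), (30, 5), (32, 6), (34, 7), (36, 9), (37,
  11), (38, 12), (39, 13), (40, 14), (46, 17), (49, 18), (50, 19), (52, 20), (53, 1), (53, 21), (54, 1), (57, 2),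
  (57, 23), (58, 2), (61, 3), (62, 25), (63, 4), (64, 5), (65, 27), (66, 28), (67, 6), (68, 31), (69, 7), (69, 33),
  (70, 8), (71, 9), (71, 35), (72, 10), (78, 41), (80, 43), (81, 17), (82, 45), (83, 18), (84, 19), (85, 47), (86,
  48), (87, 20), (88, 51), (89, 21), (90, 1), (90, 22), (90, 54), (91, 23), (92, 2), (92, 24), (92, 58), (93, 3),
  (93, 26), (93, 61), (94, 4), (94, 29), (94, 63), (95, 5), (95, 30), (95, 64), (96, 6), (96, 32), (96, 67), (99,
  73), (100, 74), (101, 75), (102, 76), (103, 41), (103, 77), (104, 42), (105, 43), (105, 79), (106, 44), (107, 17),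
  (107, 46), (107, 81), (108, 18), (108, 49), (108, 83), (109, 19), (109, 50), (109, 84), (110, 20), (110, 52), (110,
  87), (111, 1), (111, 21), (111, 53), (111, 54), (111, 89)], [(0, 16), (0, 71), (0, 72), (41, 1), (42, 1), (43, 2),
  (44, 2), (45, 3), (46, 3), (47, 4), (48, 5), (49, 4), (50, 5), (51, 6), (52, 6), (53, 8), (54, 7), (55, 8), (56,
  7), (57, 10), (58, 9), (59, 10), (60, 9), (61, 11), (62, 11), (63, 12), (64, 13), (65, 12), (66, 13), (67, 14),
  (68, 14), (69, 15), (70, 15), (71, 16), (72, 16), (73, 17), (74, 18), (75, 19), (76, 20), (77, 21), (78, 22), (79,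
  23), (80, 24), (81, 25), (82, 26), (83, 27), (84, 28), (85, 29), (86, 30), (87, 31), (88, 32), (89, 33), (90, 34),
  (91, 35), (92, 36), (93, 37), (94, 38), (95, 39), (96, 40), (97, 1), (97, 41), (97, 42), (98, 2), (98, 43), (98,
  44), (99, 3), (99, 45), (99, 46), (100, 4), (100, 47), (100, 49), (101, 5), (101, 48), (101, 50), (102, 6), (102,
  51), (102, 52), (103, 8), (103, 53), (103, 55), (104, 7), (104, 54), (104, 56), (105, 10), (105, 57), (105, 59),
  (106, 9), (106, 58), (106, 60), (107, 11), (107, 61), (107, 62), (108, 12), (108, 63), (108, 65), (109, 13), (109,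
  64), (109, 66), (110, 14), (110, 67), (110, 68), (111, 15), (111, 69), (111, 70)], [(3, 17), (4, 18), (5, 19), (6,
  20), (7, 41), (8, 21), (8, 42), (9, 43), (10, 23), (10, 44), (11, 25), (11, 45), (11, 73), (12, 27), (12, 47), (12,
  74), (13, 28), (13, 48), (13, 75), (14, 31), (14, 51), (14, 76), (15, 33), (15, 55), (15, 56), (15, 77), (15, 97),
  (16, 35), (16, 59), (16, 60), (16, 79), (16, 98), (22, 42), (24, 44), (25, 73), (26, 46), (27, 74), (28, 75), (29,
  49), (30, 50), (31, 76), (32, 52), (33, 77), (34, 56), (34, 78), (34, 97), (35, 79), (36, 60), (36, 80), (36, 98),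
  (37, 62), (37, 82), (37, 99), (38, 65), (38, 85), (38, 100), (39, 66), (39, 86), (39, 101), (40, 68), (40, 88),
  (40, 102), (45, 73), (47, 74), (48, 75), (51, 76), (55, 77), (55, 97), (56, 97), (59, 79), (59, 98), (60, 98), (61,
  81), (62, 99), (63, 83), (64, 84), (65, 100), (66, 101), (67, 87), (68, 102), (69, 103), (70, 89), (70, 104), (71,
  105), (72, 91), (72, 106), (78, 97), (80, 98), (82, 99), (85, 100), (86, 101), (88, 102), (90, 104), (92, 106),
  (93, 107), (94, 108), (95, 109), (96, 110)], [(1, 3), (2, 4), (2, 7), (2, 11), (4, 11), (5, 8), (6, 10), (6, 13),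
  (6, 15), (7, 11), (9, 12), (10, 15), (13, 15), (14, 16), (18, 25), (19, 21), (19, 22), (19, 26), (20, 23), (20,
  24), (20, 28), (20, 29), (20, 33), (20, 34), (20, 37), (21, 26), (22, 26), (23, 29), (23, 33), (23, 37), (24, 29),
  (24, 34), (24, 37), (28, 33), (28, 34), (28, 37), (29, 37), (31, 35), (31, 36), (31, 38), (32, 39), (33, 37), (34,
  37), (35, 38), (36, 38), (41, 45), (42, 46), (43, 47), (43, 54), (43, 61), (44, 49), (44, 56), (44, 62), (47, 61),
  (48, 55), (49, 62), (50, 53), (51, 59), (51, 64), (51, 70), (52, 57), (52, 66), (52, 69), (54, 61), (56, 62), (57,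
  69), (58, 63), (59, 70), (60, 65), (64, 70), (66, 69), (67, 72), (68, 71), (74, 81), (75, 77), (75, 78), (75, 82),
  (76, 79), (76, 80), (76, 84), (76, 85), (76, 89), (76, 90), (76, 93), (77, 82), (78, 82), (79, 85), (79, 89), (79,
  93), (80, 85), (80, 90), (80, 93), (84, 89), (84, 90), (84, 93), (85, 93), (87, 91), (87, 92), (87, 94), (88, 95),
  (89, 93), (90, 93), (91, 94), (92, 94), (97, 99), (98, 100), (98, 104), (98, 107), (100, 107), (101, 103), (102,
  105), (102, 109), (102, 111), (104, 107), (105, 111), (106, 108), (109, 111), (110, 0)], [(1, 2), (3, 4), (3, 5),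
  (3, 6), (4, 6), (5, 6), (7, 9), (8, 10), (11, 12), (11, 13), (11, 14), (12, 14), (13, 14), (15, 16), (17, 18), (17,
  19), (17, 20), (18, 20), (19, 20), (21, 23), (22, 24), (25, 27), (25, 28), (25, 31), (26, 29), (26, 30), (26, 32),
  (27, 31), (28, 31), (29, 32), (30, 32), (33, 35), (34, 36), (37, 38), (37, 39), (37, 40), (38, 40), (39, 40), (41,
  43), (42, 44), (45, 47), (45, 48), (45, 51), (46, 49), (46, 50), (46, 52), (47, 51), (48, 51), (49, 52), (50, 52),
  (53, 57), (54, 58), (55, 59), (56, 60), (61, 63), (61, 64), (61, 67), (62, 65), (62, 66), (62, 68), (63, 67), (64,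
  67), (65, 68), (66, 68), (69, 71), (70, 72), (73, 74), (73, 75), (73, 76), (74, 76), (75, 76), (77, 79), (78, 80),
  (81, 83), (81, 84), (81, 87), (82, 85), (82, 86), (82, 88), (83, 87), (84, 87), (85, 88), (86, 88), (89, 91), (90,
  92), (93, 94), (93, 95), (93, 96), (94, 96), (95, 96), (97, 98), (99, 100), (99, 101), (99, 102), (100, 102), (101,
  102), (103, 105), (104, 106), (107, 108), (107, 109), (107, 110), (108, 110), (109, 110), (111, 0)]]

/-- a tree of words -/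
def p6 : List (ℕ × ℕ) :=
  [(0, 1), (0, 2), (0, 3), (0, 4), (0, 5), (0, 6), (0, 7), (0, 8), (1, 2), (1, 4), (1, 5), (1, 6), (1, 7), (1, 8),
  (2, 1), (2, 3), (2, 4), (2, 5), (2, 6), (2, 7), (2, 8), (3, 2), (3, 4), (3, 5), (3, 6), (3, 7), (3, 8), (4, 0), (4,
  3), (4, 6), (4, 7), (4, 8), (4, 11), (5, 1), (5, 6), (5, 7), (5, 8), (5, 11), (6, 0), (6, 7), (6, 8), (6, 10), (7,
  8), (9, 3), (9, 4), (9, 5), (9, 6), (9, 7), (9, 8), (10, 0), (10, 3), (10, 5), (10, 8), (11, 6), (11, 8), (12, 0),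
  (12, 7), (12, 8), (13, 8), (14, 9), (15, 5), (15, 7), (15, 8), (16, 4), (16, 5), (16, 6), (16, 7), (16, 8), (17,
  3), (17, 7), (17, 8), (18, 1), (18, 6), (18, 7), (18, 8), (19, 0), (19, 7), (19, 8), (20, 8), (22, 1), (22, 4),
  (22, 6), (22, 7), (23, 6), (23, 8), (24, 1), (24, 6), (25, 7), (25, 8), (26, 8), (28, 1), (28, 3), (28, 6), (28,
  8), (29, 2), (29, 6), (29, 8), (30, 7), (30, 8), (31, 8), (32, 9), (32, 11), (33, 5), (34, 6), (34, 8), (35, 7),
  (35, 11), (41, 10), (42, 3), (44, 7), (45, 8)]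

/-- a tree of words -/
def q6 : List (ℕ × ℕ) :=
  [(0, 10), (0, 11), (1, 9), (1, 11), (2, 10), (3, 11), (4, 2), (4, 10), (5, 1), (5, 9), (5, 11), (6, 2), (6, 10),
  (7, 10), (8, 1), (8, 9), (8, 11), (9, 9), (9, 11), (10, 0), (10, 11), (11, 2), (12, 10), (13, 1), (13, 9), (13,
  11), (14, 1), (14, 9), (14, 11), (15, 9), (16, 0), (16, 10), (16, 11), (18, 11), (20, 11), (21, 2), (21, 10), (23,
  1), (23, 9), (23, 11), (24, 9), (24, 11), (25, 11), (26, 2), (26, 4), (27, 9), (28, 0), (28, 10), (28, 11), (30,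
  0), (31, 11), (32, 3), (32, 11), (33, 10), (34, 10), (35, 2), (35, 10), (36, 10), (37, 1), (37, 9), (37, 11), (39,
  11), (40, 2), (40, 10), (41, 11), (43, 2), (43, 4), (43, 10), (48, 11), (49, 10), (51, 10), (52, 11), (53, 2), (53,
  10), (54, 1), (54, 3), (54, 11), (55, 1), (55, 11), (57, 1), (57, 11), (58, 11), (59, 11), (60, 3), (60, 11), (61,
  2), (61, 4), (62, 2), (62, 10), (64, 9), (65, 10), (66, 10), (68, 1), (68, 3), (68, 6), (68, 9), (68, 11), (69, 2),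
  (69, 10), (70, 11), (71, 11), (73, 10), (74, 11), (76, 11), (77, 2), (78, 11), (79, 2), (82, 2), (82, 10), (84,
  11), (85, 10)]

/-- a tree of words -/
def pc : List (ℕ × ℕ) :=
  [(0, 9), (0, 10), (0, 11), (1, 10), (1, 11), (2, 9), (2, 11), (3, 10), (4, 1), (4, 9), (4, 11), (5, 10), (6, 0),
  (6, 11), (7, 2), (7, 10), (8, 1), (8, 9), (8, 11), (9, 11), (10, 11), (11, 2), (11, 10), (12, 1), (12, 9), (12,
  11), (13, 11), (14, 2), (14, 10), (15, 10), (16, 1), (16, 9), (16, 11), (17, 9), (17, 11), (18, 0), (18, 10), (18,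
  11), (19, 2), (20, 2), (20, 10), (21, 2), (21, 10), (22, 10), (23, 1), (23, 6), (23, 9), (23, 11), (24, 9), (24,
  11), (25, 11), (26, 2), (27, 2), (27, 10), (28, 10), (29, 1), (29, 9), (29, 11), (30, 1), (30, 9), (30, 11), (31,
  9), (32, 0), (32, 10), (32, 11), (34, 0), (34, 11), (36, 11), (37, 3), (37, 11), (38, 2), (38, 10), (41, 1), (41,
  9), (41, 11), (42, 10), (43, 1), (43, 6), (43, 9), (43, 11), (44, 1), (44, 9), (44, 11), (45, 6), (45, 9), (45,
  11), (46, 9), (46, 11), (47, 0), (47, 10), (47, 11), (48, 2), (48, 4), (49, 11), (50, 2), (51, 2), (51, 10), (54,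
  1), (54, 9), (54, 11), (55, 1), (55, 9), (55, 11), (56, 9), (56, 11), (57, 0), (57, 3), (57, 11), (58, 2), (58, 4),
  (59, 9), (60, 0), (60, 10), (60, 11), (62, 0), (63, 11), (64, 3), (64, 11), (65, 10), (66, 11), (67, 10), (68, 2),
  (68, 10), (69, 11), (70, 2), (70, 10), (71, 10), (72, 1), (72, 3), (72, 6), (72, 9), (72, 11), (73, 9), (74, 0),
  (74, 11), (75, 4), (76, 1), (76, 9), (76, 11), (77, 6), (77, 9), (77, 11), (78, 9), (78, 11), (79, 11), (80, 2),
  (80, 4), (81, 9), (82, 0), (82, 10), (82, 11), (84, 9), (85, 0), (85, 11), (87, 0), (87, 10), (87, 11), (89, 11),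
  (90, 3), (90, 11), (91, 2), (91, 4), (91, 10), (94, 2), (94, 10), (96, 10), (97, 1), (97, 3), (97, 6), (97, 9),
  (97, 11), (98, 11), (99, 11), (100, 2), (100, 4), (102, 3), (102, 11), (103, 2), (103, 10), (104, 11), (105, 2),
  (105, 10), (106, 3), (106, 11), (107, 11), (108, 2), (108, 4), (108, 5), (108, 10), (109, 4), (111, 0), (112, 11),
  (113, 3), (113, 11), (114, 10), (116, 10), (117, 11), (118, 2), (118, 5), (118, 10), (119, 1), (119, 3), (119, 9),
  (119, 11), (121, 1), (121, 11), (123, 1), (123, 11), (124, 2), (125, 10), (126, 1), (126, 9), (126, 11), (127, 11),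
  (128, 3), (128, 11), (129, 9), (129, 11), (131, 3), (131, 11), (132, 2), (132, 4), (133, 0), (134, 11), (135, 4),
  (135, 10), (137, 9), (138, 11), (141, 11), (143, 11), (144, 2), (144, 10), (145, 2), (145, 4), (145, 10), (146, 4),
  (148, 0), (149, 11), (150, 3), (150, 11), (151, 10), (152, 0), (153, 11), (154, 10), (155, 11), (156, 3), (156,
  11), (157, 10)]

/-- a tree of words -/
def pv : List (ℕ × ℕ) :=
  [(0, 0), (0, 1), (0, 2), (0, 3), (0, 4), (0, 5), (0, 6), (0, 7), (0, 8), (1, 1), (1, 2), (1, 3), (1, 4), (1, 5),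
  (1, 6), (1, 7), (1, 8), (2, 0), (2, 2), (2, 3), (2, 4), (2, 5), (2, 6), (2, 7), (2, 8), (3, 1), (3, 3), (3, 4), (3,
  5), (3, 6), (3, 7), (3, 8), (4, 2), (4, 4), (4, 5), (4, 6), (4, 7), (4, 8), (5, 0), (5, 3), (5, 5), (5, 6), (5, 7),
  (5, 8), (5, 11), (6, 1), (6, 6), (6, 7), (6, 8), (6, 11), (7, 0), (7, 7), (7, 8), (7, 10), (8, 8), (9, 9), (10, 2),
  (10, 4), (10, 5), (10, 6), (10, 7), (10, 8), (11, 1), (11, 3), (11, 4), (11, 5), (11, 6), (11, 7), (11, 8), (12,
  2), (12, 4), (12, 5), (12, 6), (12, 7), (12, 8), (13, 3), (13, 6), (13, 7), (13, 8), (13, 11), (14, 1), (14, 6),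
  (14, 7), (14, 8), (14, 11), (15, 7), (15, 8), (15, 10), (16, 8), (18, 2), (18, 4), (18, 5), (18, 6), (18, 7), (18,
  8), (19, 3), (19, 4), (19, 5), (19, 6), (19, 7), (19, 8), (20, 2), (20, 4), (20, 5), (20, 6), (20, 7), (20, 8),
  (21, 0), (21, 3), (21, 5), (21, 7), (21, 8), (22, 6), (22, 8), (22, 11), (23, 0), (23, 7), (23, 8), (24, 8), (25,
  9), (26, 0), (26, 3), (26, 5), (26, 7), (26, 8), (27, 4), (27, 5), (27, 6), (27, 7), (27, 8), (28, 0), (28, 3),
  (28, 5), (28, 7), (28, 8), (29, 1), (29, 6), (29, 7), (29, 8), (30, 0), (30, 7), (30, 8), (31, 8), (32, 9), (33,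
  1), (33, 4), (33, 6), (33, 7), (34, 0), (34, 5), (34, 6), (34, 8), (34, 11), (35, 1), (35, 6), (35, 7), (35, 9),
  (36, 0), (36, 7), (36, 8), (36, 10), (37, 8), (37, 10), (38, 9), (39, 1), (39, 3), (39, 6), (39, 7), (39, 8), (39,
  11), (40, 2), (40, 5), (40, 6), (40, 8), (40, 11), (41, 1), (41, 6), (41, 7), (41, 8), (41, 11), (42, 0), (42, 7),
  (42, 8), (43, 8), (43, 11), (44, 9), (44, 11), (45, 5), (46, 0), (46, 2), (46, 6), (46, 8), (46, 11), (47, 0), (47,
  7), (47, 8), (47, 10), (47, 11), (48, 8), (48, 11), (49, 9), (50, 4), (51, 1), (51, 4), (51, 10), (52, 10), (53,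
  10), (54, 3), (54, 7), (56, 3), (56, 5), (56, 10), (57, 3), (57, 4), (57, 5), (57, 6), (57, 7), (57, 8), (58, 3),
  (58, 5), (58, 7), (58, 8), (59, 6), (59, 8), (59, 11), (60, 7), (60, 8), (60, 10), (61, 8), (63, 5), (63, 7), (63,
  8), (64, 4), (64, 5), (64, 6), (64, 7), (64, 8), (65, 3), (65, 7), (65, 8), (66, 1), (66, 6), (66, 7), (66, 8),
  (67, 7), (67, 8), (68, 8), (70, 1), (70, 4), (70, 6), (70, 7), (71, 6), (71, 8), (71, 11), (72, 6), (73, 7), (73,
  8), (74, 8), (76, 2), (76, 6), (76, 8), (76, 11), (77, 7), (77, 8), (78, 8), (78, 11), (79, 11), (80, 5), (80, 10),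
  (81, 2), (81, 6), (81, 8), (81, 11), (82, 7), (82, 8), (82, 10), (82, 11), (83, 8), (83, 11), (85, 4), (86, 10),
  (87, 10), (88, 3), (88, 7), (90, 3), (90, 4), (90, 5), (90, 6), (90, 7), (90, 8), (91, 8), (92, 6), (93, 7), (93,
  8), (94, 8), (96, 4), (96, 5), (96, 6), (96, 7), (96, 8), (97, 0)]

/-- the type -/
def ty : Ty :=
  ⟨3, 9, [[([], []), ([1], [1, 3]), ([2], [2]), ([1, 3], [3]), ([4], [4, 5]), ([4, 5], [5]), ([6], [6, 7, 8]), ([7],
  [7]), ([6, 7, 8], [8])], [([0], [0, 3]), ([], []), ([2], [2, 4, 6]), ([0, 3], [3]), ([4], [4]), ([5], [5, 7]), ([2,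
  4, 6], [6]), ([5, 7], [7]), ([8], [8])], [([0], [0]), ([1], [1, 4, 6]), ([], []), ([3], [3, 5, 8]), ([1, 4, 6],
  [4]), ([3, 5, 8], [5]), ([6], [6]), ([7], [7]), ([8], [8])]]⟩

/-- the positive chain -/
def cpos : List (List ℕ × List ℕ × List (List ℕ)) :=
  [([9], [], [[0, 2], [1], [2], [3, 4], [4], [5, 6, 7], [6], [7]]), ([10], [], [[0, 2, 4], [1], [2], [3, 5], [4],
  [5], [6]]), ([11], [], [[0, 2, 5], [1], [2], [3], [4], [5]]), ([9, 10, 9, 10], [], [[0, 3], [1], [2], [3], [4]]),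
  ([2, 11, 10, 11, 2], [], [[0], [1], [2], [3]]), ([2, 9, 11, 10, 9, 10, 11, 2], [], [[0], [1], [2]]), ([1, 10, 11,
  10, 1], [], [[0], [1]]), ([1, 6, 10, 11, 10, 9, 10, 11, 10, 1, 6], [], [[0]]), ([0, 1, 9, 10, 11, 10, 1, 9, 0], [],
  [])]

/-- the negative chain -/
def cneg : List (List ℕ × List ℕ × List (List ℕ)) :=
  [([0], [], [[2, 0], [1], [2], [4, 3], [4], [7, 6, 5], [6], [7]]), ([1], [], [[4, 2, 0], [1], [2], [5, 3], [4], [5],
  [6]]), ([2], [], [[5, 2, 0], [1], [2], [3], [4], [5]]), ([3], [], [[3, 0], [1], [2], [3], [4]]), ([4], [], [[0],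
  [1], [2], [3]]), ([5], [], [[0], [1], [2]]), ([6], [], [[0], [1]]), ([7], [], [[0]]), ([8], [], [])]

/-- stability -/
def stab : List (List (List (List ℕ × List ℕ × List ℕ))) :=
  [[[([9, 0], [9, 0], []), ([9, 9, 0], [0], [])], [([10, 0], [0], [1]), ([10, 9, 0], [9, 0], [3])], [([11, 0], [0],
  [2]), ([11, 9, 0], [9, 0], [2])], [([9, 10, 9, 10, 0], [0], [1, 3]), ([9, 10, 9, 10, 9, 0], [9, 0], [1, 3])], [([2,
  11, 10, 11, 2, 0], [0], [4]), ([2, 11, 10, 11, 2, 9, 0], [9, 0], [5])], [([2, 9, 11, 10, 9, 10, 11, 2, 0], [0], [4,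
  5]), ([2, 9, 11, 10, 9, 10, 11, 2, 9, 0], [9, 0], [4, 5])], [([1, 10, 11, 10, 1, 0], [0], [6]), ([1, 10, 11, 10, 1,
  9, 0], [9, 0], [8])], [([1, 6, 10, 11, 10, 9, 10, 11, 10, 1, 6, 0], [0], [7]), ([1, 6, 10, 11, 10, 9, 10, 11, 10,
  1, 6, 9, 0], [9, 0], [7])], [([0, 1, 9, 10, 11, 10, 1, 9, 0, 0], [0], [0, 6, 0]), ([0, 1, 9, 10, 11, 10, 1, 9, 0,
  9, 0], [9, 0], [0, 6, 0])]], [[([9, 1], [1], [0]), ([9, 10, 1], [10, 1], [3])], [([10, 1], [10, 1], []), ([10, 10,
  1], [1], [])], [([11, 1], [1], [2]), ([11, 10, 1], [10, 1], [6])], [([9, 10, 9, 10, 1], [1], [0, 3]), ([9, 10, 9,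
  10, 10, 1], [10, 1], [0, 3])], [([2, 11, 10, 11, 2, 1], [1], [4]), ([2, 11, 10, 11, 2, 10, 1], [10, 1], [4])],
  [([2, 9, 11, 10, 9, 10, 11, 2, 1], [1], [5]), ([2, 9, 11, 10, 9, 10, 11, 2, 10, 1], [10, 1], [7])], [([1, 10, 11,
  10, 1, 1], [1], [1, 2, 1]), ([1, 10, 11, 10, 1, 10, 1], [10, 1], [1, 2, 1])], [([1, 6, 10, 11, 10, 9, 10, 11, 10,
  1, 6, 1], [1], [5, 7]), ([1, 6, 10, 11, 10, 9, 10, 11, 10, 1, 6, 10, 1], [10, 1], [5, 7])], [([0, 1, 9, 10, 11, 10,
  1, 9, 0, 1], [1], [8]), ([0, 1, 9, 10, 11, 10, 1, 9, 0, 10, 1], [10, 1], [8])]], [[([9, 2], [2], [0]), ([9, 11, 2],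
  [11, 2], [0])], [([10, 2], [2], [1]), ([10, 11, 2], [11, 2], [4])], [([11, 2], [11, 2], []), ([11, 11, 2], [2],
  [])], [([9, 10, 9, 10, 2], [2], [3]), ([9, 10, 9, 10, 11, 2], [11, 2], [5])], [([2, 11, 10, 11, 2, 2], [2], [1, 4,
  6]), ([2, 11, 10, 11, 2, 11, 2], [11, 2], [1, 4, 6])], [([2, 9, 11, 10, 9, 10, 11, 2, 2], [2], [2, 3, 2]), ([2, 9,
  11, 10, 9, 10, 11, 2, 11, 2], [11, 2], [2, 3, 2])], [([1, 10, 11, 10, 1, 2], [2], [6]), ([1, 10, 11, 10, 1, 11, 2],
  [11, 2], [6])], [([1, 6, 10, 11, 10, 9, 10, 11, 10, 1, 6, 2], [2], [7]), ([1, 6, 10, 11, 10, 9, 10, 11, 10, 1, 6,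
  11, 2], [11, 2], [7])], [([0, 1, 9, 10, 11, 10, 1, 9, 0, 2], [2], [8]), ([0, 1, 9, 10, 11, 10, 1, 9, 0, 11, 2],
  [11, 2], [8])]]]

/-- the rules -/
def rules : List ((List ℕ × List ℕ) × List (List ℕ × List ℕ × List ℕ)) :=
  [(([], []), [([], [], [])]), (([0, 0], [0]), [([0, 0], [9, 0, 0], [0]), ([0, 9, 0], [9, 0], [0]), ([9, 0, 9, 0],
  [0], [0])]), (([1, 1], [1]), [([1, 1], [10, 1, 1], [1]), ([1, 10, 1], [10, 1], [1]), ([10, 1, 10, 1], [1], [1])]),
  (([2, 2], [2]), [([2, 2], [11, 2, 2], [2]), ([2, 11, 2], [11, 2], [2]), ([11, 2, 11, 2], [2], [2])]), (([0, 1, 0],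
  [1, 0, 1]), [([0, 1, 0], [10, 1, 0, 10, 1], [1]), ([0, 1, 9, 0], [1, 9, 0, 1], [0]), ([0, 10, 1, 0], [1, 0, 10, 1],
  [1]), ([0, 10, 1, 9, 0], [10, 1, 9, 0, 1], [0]), ([9, 0, 1, 0], [10, 1, 0, 1], [1, 0]), ([9, 0, 1, 9, 0], [1, 0,
  1], [0]), ([9, 0, 10, 1, 0], [1, 9, 0, 10, 1], [1]), ([9, 0, 10, 1, 9, 0], [10, 1, 9, 0, 10, 1], [3])]), (([1, 0,
  1], [0, 1, 0]), [([1, 0, 1], [9, 0, 1, 9, 0], [0]), ([1, 0, 10, 1], [0, 10, 1, 0], [1]), ([1, 9, 0, 1], [0, 1, 9,
  0], [0]), ([1, 9, 0, 10, 1], [9, 0, 10, 1, 0], [1]), ([10, 1, 0, 1], [9, 0, 1, 0], [0, 1]), ([10, 1, 0, 10, 1], [0,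
  1, 0], [1]), ([10, 1, 9, 0, 1], [0, 10, 1, 9, 0], [0]), ([10, 1, 9, 0, 10, 1], [9, 0, 10, 1, 9, 0], [3])]), (([0,
  2], [2, 0]), [([0, 2], [2, 0], []), ([0, 11, 2], [11, 2, 0], []), ([9, 0, 2], [2, 9, 0], []), ([9, 0, 11, 2], [11,
  2, 9, 0], [])]), (([2, 0], [0, 2]), [([2, 0], [0, 2], []), ([2, 9, 0], [9, 0, 2], []), ([11, 2, 0], [0, 11, 2],
  []), ([11, 2, 9, 0], [9, 0, 11, 2], [])]), (([1, 2, 1, 2], [2, 1, 2, 1]), [([1, 2, 1, 2], [2, 1, 2, 1], []), ([1,
  2, 1, 11, 2], [11, 2, 10, 1, 2, 10, 1], [1, 2]), ([1, 2, 10, 1, 2], [11, 2, 1, 11, 2, 10, 1], [1, 6]), ([1, 2, 10,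
  1, 11, 2], [2, 10, 1, 11, 2, 1], [2, 4]), ([1, 11, 2, 1, 2], [11, 2, 1, 2, 1], []), ([1, 11, 2, 1, 11, 2], [2, 10,
  1, 2, 10, 1], [1, 2]), ([1, 11, 2, 10, 1, 2], [2, 1, 11, 2, 10, 1], [1, 6]), ([1, 11, 2, 10, 1, 11, 2], [11, 2, 10,
  1, 11, 2, 1], [2, 4]), ([10, 1, 2, 1, 2], [2, 10, 1, 2, 1], []), ([10, 1, 2, 1, 11, 2], [11, 2, 10, 1, 2, 1], [1,
  4]), ([10, 1, 2, 10, 1, 2], [11, 2, 1, 11, 2, 1], [2, 1]), ([10, 1, 2, 10, 1, 11, 2], [2, 1, 11, 2, 1], [2, 4]),
  ([10, 1, 11, 2, 1, 2], [11, 2, 1, 2, 10, 1], [2, 6]), ([10, 1, 11, 2, 1, 11, 2], [2, 1, 2, 10, 1], [1, 2]), ([10,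
  1, 11, 2, 10, 1, 2], [2, 10, 1, 11, 2, 10, 1], [1, 6]), ([10, 1, 11, 2, 10, 1, 11, 2], [11, 2, 10, 1, 11, 2, 10,
  1], [4, 6])]), (([2, 1, 2, 1], [1, 2, 1, 2]), [([2, 1, 2, 1], [1, 2, 1, 2], []), ([2, 1, 2, 10, 1], [10, 1, 11, 2,
  1, 11, 2], [2, 1]), ([2, 1, 11, 2, 1], [10, 1, 2, 10, 1, 11, 2], [2, 4]), ([2, 1, 11, 2, 10, 1], [1, 11, 2, 10, 1,
  2], [1, 6]), ([2, 10, 1, 2, 1], [10, 1, 2, 1, 2], []), ([2, 10, 1, 2, 10, 1], [1, 11, 2, 1, 11, 2], [2, 1]), ([2,
  10, 1, 11, 2, 1], [1, 2, 10, 1, 11, 2], [2, 4]), ([2, 10, 1, 11, 2, 10, 1], [10, 1, 11, 2, 10, 1, 2], [1, 6]),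
  ([11, 2, 1, 2, 1], [1, 11, 2, 1, 2], []), ([11, 2, 1, 2, 10, 1], [10, 1, 11, 2, 1, 2], [2, 6]), ([11, 2, 1, 11, 2,
  1], [10, 1, 2, 10, 1, 2], [1, 2]), ([11, 2, 1, 11, 2, 10, 1], [1, 2, 10, 1, 2], [1, 6]), ([11, 2, 10, 1, 2, 1],
  [10, 1, 2, 1, 11, 2], [1, 4]), ([11, 2, 10, 1, 2, 10, 1], [1, 2, 1, 11, 2], [2, 1]), ([11, 2, 10, 1, 11, 2, 1], [1,
  11, 2, 10, 1, 11, 2], [2, 4]), ([11, 2, 10, 1, 11, 2, 10, 1], [10, 1, 11, 2, 10, 1, 11, 2], [4, 6])])]

/-- the normal forms -/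
def tab : List (List ℕ × List (ℕ × ℕ)) :=
  [([], [(1, 0), (2, 0), (3, 0)]), ([0], [(1, 1), (4, 0), (5, 0)]), ([1], [(6, 0), (2, 2), (7, 0)]), ([2], [(5, 6),
  (8, 0), (3, 3)]), ([1, 0], [(9, 0), (4, 2), (10, 0)]), ([2, 0], [(5, 33798), (11, 0), (5, 3)]), ([0, 1], [(6, 1),
  (9, 5), (12, 0)]), ([2, 1], [(12, 6), (13, 0), (7, 3)]), ([1, 2], [(14, 0), (8, 2), (15, 0)]), ([0, 1, 0], [(9, 1),
  (9, 66565), (16, 0)]), ([2, 1, 0], [(16, 6), (17, 0), (10, 3)]), ([1, 2, 0], [(18, 0), (11, 2), (19, 0)]), ([2, 0,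
  1], [(12, 33798), (20, 0), (12, 3)]), ([1, 2, 1], [(21, 0), (13, 2), (22, 0)]), ([0, 1, 2], [(14, 1), (18, 71685),
  (23, 0)]), ([2, 1, 2], [(23, 6), (22, 8), (15, 3)]), ([2, 0, 1, 0], [(16, 33798), (24, 0), (16, 3)]), ([1, 2, 1,
  0], [(25, 0), (17, 2), (26, 0)]), ([0, 1, 2, 0], [(18, 1), (18, 101783557), (27, 0)]), ([2, 1, 2, 0], [(27, 6),
  (26, 8), (19, 3)]), ([1, 2, 0, 1], [(28, 0), (20, 2), (29, 0)]), ([0, 1, 2, 1], [(21, 1), (28, 71685), (30, 0)]),
  ([2, 1, 2, 1], [(30, 6), (22, 100360), (22, 3)]), ([2, 0, 1, 2], [(23, 33798), (31, 0), (23, 3)]), ([1, 2, 0, 1,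
  0], [(32, 0), (24, 2), (33, 0)]), ([0, 1, 2, 1, 0], [(25, 1), (32, 71685), (34, 0)]), ([2, 1, 2, 1, 0], [(34, 6),
  (26, 100360), (26, 3)]), ([2, 0, 1, 2, 0], [(27, 33798), (35, 0), (27, 3)]), ([0, 1, 2, 0, 1], [(28, 1), (28,
  101783557), (36, 0)]), ([2, 1, 2, 0, 1], [(36, 6), (33, 103432), (29, 3)]), ([2, 0, 1, 2, 1], [(30, 33798), (37,
  0), (30, 3)]), ([1, 2, 0, 1, 2], [(37, 40877690951), (31, 2), (38, 0)]), ([0, 1, 2, 0, 1, 0], [(32, 1), (32,
  101783557), (39, 0)]), ([2, 1, 2, 0, 1, 0], [(39, 6), (33, 168924168), (33, 3)]), ([2, 0, 1, 2, 1, 0], [(34,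
  33798), (40, 0), (34, 3)]), ([1, 2, 0, 1, 2, 0], [(40, 40877690951), (35, 2), (41, 0)]), ([2, 0, 1, 2, 0, 1], [(36,
  33798), (42, 0), (36, 3)]), ([1, 2, 0, 1, 2, 1], [(37, 178161761390663), (37, 2), (43, 0)]), ([2, 1, 2, 0, 1, 2],
  [(43, 77077520948230), (41, 174167048), (38, 3)]), ([2, 0, 1, 2, 0, 1, 0], [(39, 33798), (44, 0), (39, 3)]), ([1,
  2, 0, 1, 2, 1, 0], [(40, 178161761390663), (40, 2), (45, 0)]), ([2, 1, 2, 0, 1, 2, 0], [(45, 77077520948230), (41,
  207406339080), (41, 3)]), ([1, 2, 0, 1, 2, 0, 1], [(44, 181460296273991), (42, 2), (46, 0)]), ([2, 1, 2, 0, 1, 2,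
  1], [(43, 218501659448417286), (46, 174167048), (43, 3)]), ([1, 2, 0, 1, 2, 0, 1, 0], [(44, 253508939335864391),
  (44, 2), (47, 0)]), ([2, 1, 2, 0, 1, 2, 1, 0], [(45, 218501659448417286), (47, 174167048), (45, 3)]), ([2, 1, 2, 0,
  1, 2, 0, 1], [(47, 221879359168945158), (46, 207406339080), (46, 3)]), ([2, 1, 2, 0, 1, 2, 0, 1, 0], [(47,
  296522706043128617990), (47, 207406339080), (47, 3)])]

/-- the certificates -/
def ex : Ex :=
  ⟨cpos, cneg, stab, rules, tab⟩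

/-- the classes : `c0 c1 c2`, the six products, `z`, the elements of order 9, 7, 5 -/
def C : Cls :=
  ⟨[([0, 1, 9, 10, 11, 10, 1, 9, 0, 8], 3), ([1, 10, 11, 10, 1, 6], 3), ([11, 2], 3), ([0, 1, 9, 10, 11, 10, 7, 9,
  10, 11, 10, 1, 6, 7], 3), ([0, 1, 7, 9, 10, 3, 11, 10, 9, 10, 11, 10, 1, 7], 3), ([0, 1, 9, 10, 11, 10, 1, 9, 0, 8,
  11, 2], 3), ([0, 1, 9, 10, 6, 11, 10, 1, 9, 0, 8, 11], 3), ([1, 10, 11, 4, 10, 11, 2, 4], 3), ([1, 4, 10, 1, 11,
  10, 11, 4], 3), ([11, 4, 3, 10, 9, 11, 4, 3, 10, 9, 11, 4, 3, 10, 9], 3), ([11, 4, 3, 10, 9], 9), ([10, 2, 9, 3],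
  7), ([11, 10, 4, 1], 5)], [10, 2, 9, 3], [11], [[true, true], [false, false, false, false, true, false, false,
  false, true, false, false, false, false, true, false, false, false, true], [false, false, true, false, true, false,
  true, false, true, false, false, true, false, true, false, true, false, true, false, false, true, false, true,
  false, true, false, true, false, false, true, false, true, false, true, false, true], [false, false, false, false,
  false, false, true, false, true, false, false, false, false, false, false, true, false, true, false, false, false,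
  false, false, false, true, false, true], [false, true, false, true, false, true, false, true, false, true, false,
  true, false, true, false, true, false, true, false, true, false, true, false, true, false, true, false, true,
  false, true]]⟩

/-- the letters as words in the generators -/
def ws : List (List Bool) :=
  [[false, true, false, false, false, true, false, false, false, true, false, false, true, false, true, false, false,
  false, false, false, true, false, false, false, false, false, false, true, false, false, true, false, true, false,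
  true, false, false, false], [false, true, false, false, false, true, false, true, false, false, true, false, true,
  false, false, true, false, true, false, true, false, true, false, true, false, false, false, true, false, false,
  true], [false, false, false, false, true, false, false, false, false, false, false, true, false, false, false,
  false, false, true, false, false, true, false, true, false, false, false], [false, true, false, false, true, false,
  false, false, true, false, true, false, false, true, false, false, true, false, true, false, false, false, true,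
  false, false, true, false, true], [false, true, false, true, false, true, false, false, false, true, false, false,
  true, false, false, false, true, false, true, false, false, true, false, false, false, false, true, false, true,
  false, true, false, true, false, false, false, false], [false, true, false, false, true, false, false, true, false,
  false, false, false, true, false, true, false, true, false, false, true, false, true, false, false, true, false,
  false, false, true, false, true], [false, true, false, false, false, false, true, false, false, true, false, true,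
  false, false, false, false, true, false, false], [false, false, false, false, false, true, false, true, false,
  true, false, false, false, true, false, false, true, false, false, false, true, false, true, false, false, true,
  false, false, false, false, true, false, true, false, true, false, true], [false, false, false, false, false,
  false, true, false, false, false, false, false, false, true, false, false, false, false, false, true, false, false,
  true, false, true, false], [false, true, false, false, false, false, false, true, false, true, false, false, false,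
  true, false, false, true, false, false, false, false, false, false, true, false, true, false, false, false, true,
  false, false], [false, true, false, false, false, false, true, false, true, false, true, false, true, false, false,
  true, false, true, false, true, false, true, false, true, false, false, true, false, true, false, false, true,
  false, false, false, true], [true]]

/-- the dimensions of the fixed spaces -/
def rows : List (List ℕ) :=
  [[1, 1, 1, 1, 1, 1, 1, 1, 1, 1, 1, 1, 1, 1], [4, 4, 4, 2, 2, 2, 2, 2, 2, 0, 0, 0, 2, 6], [6, 6, 6, 4, 4, 4, 4, 4,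
  4, 8, 2, 2, 2, 14], [24, 24, 24, 20, 20, 20, 20, 20, 20, 16, 6, 10, 12, 64], [0, 0, 0, 4, 4, 4, 4, 4, 4, 2, 0, 2,
  0, 8], [8, 8, 8, 16, 16, 16, 16, 16, 16, 18, 6, 6, 8, 48], [32, 32, 32, 36, 36, 36, 36, 36, 36, 34, 12, 16, 24,
  112]]

/-- the dimensions of the spaces of solutions of the Fox equations -/
def zs : List ℕ :=
  [0, 1, 2, 10, 2, 7, 16]

/-- the transvections -/
def tw : List (List ℕ) :=
  [[], [0, 1, 9, 10, 11, 10, 1, 9, 0], [1, 10, 11, 10, 1], [1, 9, 10, 11, 10, 1, 9], [11], [0, 9, 10, 11, 10, 9, 0],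
  [10, 11, 10], [9, 10, 11, 10, 9], [8], [0, 1, 8, 9, 10, 11, 10, 1, 9, 0, 8], [0, 1, 8, 10, 11, 10, 1], [1, 8, 9,
  10, 11, 10, 1, 9, 8], [3, 8, 11], [0, 8, 9, 10, 11, 10, 9, 0, 8], [5, 10, 11, 5, 10], [8, 9, 10, 11, 10, 9, 8],
  [6], [0, 1, 7, 9, 10, 11, 10, 1, 7, 9, 0], [1, 6, 10, 11, 10, 1, 6], [1, 6, 9, 10, 11, 10, 1, 6, 9], [1, 6, 11],
  [0, 7, 9, 10, 11, 10, 7, 9, 0], [6, 10, 11, 10, 6], [6, 9, 10, 11, 10, 6, 9], [0, 6, 0], [0, 1, 6, 9, 10, 11, 10,
  1, 6, 9, 0], [0, 1, 6, 7, 10, 11, 10, 1, 6], [1, 7, 9, 10, 11, 10, 1, 7, 9], [0, 1, 6, 0, 11], [0, 6, 9, 10, 11,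
  10, 6, 9, 0], [0, 6, 10, 11, 10, 6, 0], [7, 9, 10, 11, 10, 7, 9], [2], [0, 1, 4, 9, 10, 11, 4, 10, 1, 9, 0], [1, 4,
  10, 11, 4, 10, 1], [1, 4, 9, 10, 11, 4, 10, 1, 9], [2, 11, 2], [0, 2, 9, 10, 11, 2, 10, 9, 0], [2, 10, 11, 2, 10],
  [2, 9, 10, 11, 2, 10, 9], [2, 5, 8], [0, 3, 2, 9, 10, 11, 2, 10, 9, 0, 3], [1, 0, 4, 10, 11, 4, 0, 10, 1], [3, 2,
  9, 10, 11, 2, 10, 9, 3], [2, 3, 8, 11, 2], [0, 5, 9, 10, 11, 10, 9, 0, 5], [2, 5, 10, 11, 2, 5, 10], [5, 9, 10, 11,
  10, 9, 5], [1, 2, 1], [0, 1, 5, 9, 10, 11, 10, 9, 5, 1, 0], [1, 2, 10, 11, 2, 10, 1], [1, 2, 9, 10, 11, 2, 10, 1,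
  9], [1, 2, 4, 11, 2], [10, 6, 9, 10, 11, 10, 6, 9, 10], [4, 10, 11, 4, 10], [4, 9, 10, 11, 4, 10, 9], [0, 1, 2, 1,
  0], [0, 1, 2, 9, 10, 11, 2, 10, 1, 9, 0], [0, 1, 2, 5, 10, 11, 2, 10, 1], [1, 5, 9, 10, 11, 10, 9, 5, 1], [0, 1, 2,
  4, 0, 11, 2], [0, 4, 9, 10, 11, 4, 10, 9, 0], [0, 4, 10, 11, 4, 0, 10], [2, 7, 9, 10, 11, 2, 10, 7, 9]]

/-- the long positive root elements -/
def rw : List (List ℕ) :=
  [[0, 1, 9, 10, 11, 10, 1, 9, 0], [1, 10, 11, 10, 1], [11]]

/-- the positive root elements -/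
def pw9 : List (List ℕ) :=
  [[9], [10], [11], [9, 10, 9, 10], [2, 11, 10, 11, 2], [2, 9, 11, 10, 9, 10, 11, 2], [1, 10, 11, 10, 1], [1, 6, 10,
  11, 10, 9, 10, 11, 10, 1, 6], [0, 1, 9, 10, 11, 10, 1, 9, 0]]

end Cfsg.Agent.E82.Mach.C3
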