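import Cfsg.Agent.E82.Mach.C4Ex
import Cfsg.Agent.E82.Mach.Sp

/-!
# The pressure machine: classes and relators for `Sp₈(2)` (helper38)
-/

set_option autoImplicit false
set_option maxRecDepth 100000

namespace Cfsg.Agent.E82.Mach.C4

/-- the classes : `y3`, `y2 y3`, `y0 y1 y2 y3`, the cube of an element of order 9, this element, the first generator -/
def C : Cls :=
  ⟨[([19, 3], 3), ([2, 18, 19, 18, 2, 9, 19, 3], 3), ([0, 1, 2, 16, 17, 18, 19, 18, 2, 17, 1, 16, 0, 15, 1, 2, 17,
  18, 19, 18, 2, 17, 1, 13, 2, 18, 19, 18, 2, 9, 19, 3], 3), ([17, 19, 11, 13, 18, 17, 19, 11, 13, 18, 17, 19, 11,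
  13, 18], 3), ([17, 19, 11, 13, 18], 9), ([17, 7, 19, 6, 18, 16], 15)], [17, 7, 19, 6, 18, 16], [19], [[true, true],
  [false, false, true, false, false, true, false, true, false, true, false, false, true, false, false, true, false,
  true, false, true, false, false, true, false, false, true, false, true, false, true, false, false, true, false,
  false, true, false, true, false, true], [false, false, false, true, false, true, false, true, false, true, false,
  false, false, true, false, true, false, true, false, true, false, false, false, true, false, true, false, true,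
  false, true, false, false, false, true, false, true, false, true, false, true, false, false, false, true, false,
  true, false, true, false, true, false, false, false, true, false, true, false, true, false, true], [false, false,
  false, false, false, true, false, false, false, false, false, true, false, false, false, false, false, true, false,
  false, false, false, false, true, false, false, false, false, false, true, false, false, false, false, false,
  true], [false, false, true, false, true, false, true, false, false, true, false, true, false, true, false, false,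
  true, false, true, false, true, false, false, true, false, true, false, true, false, false, true, false, true,
  false, true, false, false, true, false, true, false, true], [false, false, false, true, false, false, true, false,
  false, true, false, false, false, true, false, false, true, false, false, true, false, false, false, true, false,
  false, true, false, false, true, false, false, false, true, false, false, true, false, false, true, false, false,
  false, true, false, false, true, false, false, true, false, false, false, true, false, false, true, false, false,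
  true], [false, false, false, false, true, false, false, true, false, true, false, false, false, false, true, false,
  false, true, false, true, false, false, false, false, true, false, false, true, false, true, false, false, false,
  false, true, false, false, true, false, true, false, false, false, false, true, false, false, true, false, true,
  false, false, false, false, true, false, false, true, false, true, false, false, false, false, true, false, false,
  true, false, true, false, false, false, false, true, false, false, true, false, true, false, false, false, false,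
  true, false, false, true, false, true]]⟩

/-- the letters as words in the generators -/
def ws : List (List Bool) :=
  [[false, false, false, false, true, false, true, false, true, false, false, false, true, false, true, false, true,
  false, false, false, false, false, false, false, true, false, false, false, false, true, false, false, false, true,
  false, false, true, false, false, true, false, true, false, false, true, false, false, true, false, false], [false,
  false, false, false, false, false, false, false, true, false, false, true, false, false, true, false, true, false,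
  false, false, false, false, true, false, false, false, false, false, false, false, true, false, true, false, false,
  false, true, false, true, false, false, false, false, false, true], [false, false, false, true, false, false,
  false, true, false, false, false, false, true, false, false, false, false, false, false, false, false, false,
  false, false, false, false, true, false, false, false, true, false, false, false, true, false, false, false, true,
  false, false, true, false, false, false, true, false, false, false], [false, false, false, false, false, false,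
  false, true, false, false, false, false, false, false, false, false], [false, false, true, false, false, false,
  false, true, false, false, false, false, true, false, false, false, false, true, false, false, false, false, true,
  false, true, false, false, true, false, true, false, true, false, false, true, false, true, false, true, false,
  false, false, true, false, true, false, false, false, true, false, false], [false, false, true, false, false,
  false, true, false, true, false, false, false, false, false, true, false, true, false, false, false, true, false,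
  false, true, false, true, false, false, false, false, false, false, true, false, false, true, false, false, true,
  false, false, false, false, false, false, true, false, true], [true, false, false, false, false, true, false,
  false, false, false, false, false, true, false, false, false, false, false, true, false, true, false, true, false,
  false, false, true, false, true, false, true, false, false, false, true, false, true, false, false, true, false,
  false, false, false, true, false], [false, false, false, false, false, true, false, false, false, false, false,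
  true, false, false, false, false, false, false, true, false, true, false, true, false, false, true, false, true,
  false, true, false, false, true, false, true, false, true, false], [false, true, false, false, false, false, false,
  false, false, false, false, true, false, false, true, false, false, false, false, false, true, false, false, true,
  false, true, false, false, false, true, false, false, false, true, false, false, false, true, false, false, false,
  true, false, true, false, false], [false, false, false, false, false, false, false, false, false, true, false,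
  false, false, true, false, false, false, false, false, false, false, false, true, false, false, false, false, true,
  false, false, false, true, false, false, false], [true, false, false, true, false, true, false, true, false, false,
  true, false, false, true, false, true, false, true, false, false, true, false, true, false, false, false, false,
  true, false, true, false, true, false, false, false, false, true, false, false, false, false, true, false, true,
  false, true, false, false, false, false, true, false], [false, false, false, true, false, false, false, false,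
  true, false, false, true, false, false, false, true, false, false, true, false, true, false, false, false, true,
  false, false, true, false, true, false, false, false, false, false, false, false, true, false, true, false, true,
  false, false, true, false, false, false, true, false, true], [false, false, false, true, false, true, false, true,
  false, false, false, false, false, false, false, true, false, true, false, true, false, false, false, true, false,
  false, false, true, false, true, false, true, false, false, false, false, false, false, false, true, false, true,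
  false, true, false, false, false, true], [false, true, false, true, false, false, false, false, false, false,
  false, false, true, false, false, false, false, false, false, false, false, true, false, true, false, true, false,
  true, false, true, false, true, false, true, false, true, false, true, false, true], [false, true, false, true,
  false, true, false, false, false, false, true, false, false, true, false, false, false, false, true, false, true,
  false, false, false, false, true, false, false, false, false, false, false, true, false, true, false, false, false,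
  false, true, false, true, false, true, false, false], [false, false, false, true, false, false, false, false, true,
  false, false, false, false, false, false, false, false, false, true, false, false, false, true, false, true, false,
  false, true, false, false, false, true, false, true, false, false, false, true, false, false, false, true, false,
  true, false, false], [false, false, false, false, false, true, false, false, false, false, true, false, false,
  false, false, true, false, false, false, true, false, true, false, true, false, false, false, true, false, true,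
  false, false, true, false, false, false, true, false, true, false, false, false, true, false, true, false, false,
  true, false], [false, false, false, true, false, true, false, true, false, false, false, true, false, false, false,
  true, false, true, false, false, false, false, true, false, false, true, false, true, false, true, false, true,
  false, false, false, false, false, true, false, false, true, false, false, true, false, false, true, false, false,
  true, false, false], [false, false, false, false, true, false, false, false, false, false, false, true, false,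
  false, true, false, false, false, false, false, true, false, false, true, false, false, false, true, false, false,
  false, true, false, false, false, false, false], [true]]

/-- the dimensions of the fixed spaces -/
def rows : List (List ℕ) :=
  [[1, 1, 1, 1, 1, 1, 1], [6, 4, 0, 2, 2, 0, 8], [14, 8, 14, 8, 2, 2, 26], [76, 52, 40, 52, 18, 8, 160], [20, 16, 8,
  18, 4, 0, 48], [90, 78, 90, 84, 28, 18, 246], [249, 249, 249, 249, 249, 249, 249], [249, 249, 249, 249, 249, 249,
  249], [0, 8, 6, 4, 0, 2, 16], [16, 48, 40, 44, 12, 8, 128], [249, 249, 249, 249, 249, 249, 249], [249, 249, 249,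
  249, 249, 249, 249], [249, 249, 249, 249, 249, 249, 249], [249, 249, 249, 249, 249, 249, 249], [249, 249, 249, 249,
  249, 249, 249], [249, 249, 249, 249, 249, 249, 249]]

/-- the dimensions of the spaces of solutions of the Fox equations -/
def zs : List ℕ :=
  [0, 2, 3, 8, 1, 19, 0, 0, 2, 8, 0, 0, 0, 0, 0, 0]

/-- the transvections -/
def tw : List (List ℕ) :=
  [[], [0, 16, 1, 17, 2, 18, 19, 18, 2, 17, 1, 16, 0], [1, 17, 2, 18, 19, 18, 2, 17, 1], [16, 1, 17, 2, 18, 19, 18,
  2, 17, 1, 16], [2, 18, 19, 18, 2], [0, 16, 17, 2, 18, 19, 18, 2, 17, 16, 0], [17, 2, 18, 19, 18, 2, 17], [16, 17,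
  2, 18, 19, 18, 2, 17, 16], [19], [0, 16, 1, 17, 18, 19, 18, 17, 1, 16, 0], [1, 17, 18, 19, 18, 17, 1], [16, 1, 17,
  18, 19, 18, 17, 1, 16], [18, 19, 18], [0, 16, 17, 18, 19, 18, 17, 16, 0], [17, 18, 19, 18, 17], [16, 17, 18, 19,
  18, 17, 16], [15], [15, 0, 16, 1, 17, 2, 18, 19, 18, 2, 17, 1, 16, 0, 15], [1, 17, 2, 18, 10, 19, 10, 18, 2, 17,
  1], [15, 16, 1, 17, 2, 18, 19, 18, 2, 17, 1, 16, 15], [2, 18, 10, 19, 10, 18, 2], [15, 0, 16, 17, 2, 18, 19, 18, 2,
  17, 16, 0, 15], [17, 2, 18, 10, 19, 10, 18, 2, 17], [15, 16, 17, 2, 18, 19, 18, 2, 17, 16, 15], [10, 19, 10], [15,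
  0, 16, 1, 17, 18, 19, 18, 17, 1, 16, 0, 15], [1, 17, 18, 10, 19, 10, 18, 17, 1], [15, 16, 1, 17, 18, 19, 18, 17, 1,
  16, 15], [18, 10, 19, 10, 18], [15, 0, 16, 17, 18, 19, 18, 17, 16, 0, 15], [17, 18, 10, 19, 10, 18, 17], [15, 16,
  17, 18, 19, 18, 17, 16, 15], [13], [4, 17, 16, 17, 2, 18, 8, 19, 8, 18, 2, 17, 16, 17, 4], [13, 1, 17, 2, 18, 19,
  18, 2, 17, 1, 13], [16, 13, 1, 17, 2, 18, 19, 18, 2, 17, 1, 13, 16], [2, 18, 8, 19, 8, 18, 2], [17, 16, 17, 2, 18,
  8, 19, 8, 18, 2, 17, 16, 17], [13, 17, 2, 18, 19, 18, 2, 17, 13], [16, 13, 17, 2, 18, 19, 18, 2, 17, 13, 16], [8,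
  19, 8], [4, 17, 16, 17, 18, 8, 19, 8, 18, 17, 16, 17, 4], [13, 1, 17, 18, 19, 18, 17, 1, 13], [16, 13, 1, 17, 18,
  19, 18, 17, 1, 13, 16], [18, 8, 19, 8, 18], [17, 16, 17, 18, 8, 19, 8, 18, 17, 16, 17], [13, 17, 18, 19, 18, 17,
  13], [16, 13, 17, 18, 19, 18, 17, 13, 16], [0, 13, 0], [0, 16, 13, 1, 17, 2, 18, 19, 18, 2, 17, 1, 13, 16, 0], [13,
  1, 17, 2, 18, 10, 19, 10, 18, 2, 17, 1, 13], [16, 1, 17, 2, 18, 10, 19, 10, 18, 2, 17, 1, 16], [2, 18, 0, 8, 19, 8,
  0, 18, 2], [0, 16, 13, 17, 2, 18, 19, 18, 2, 17, 13, 16, 0], [13, 17, 2, 18, 10, 19, 10, 18, 2, 17, 13], [16, 17,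
  2, 18, 10, 19, 10, 18, 2, 17, 16], [0, 8, 19, 8, 0], [0, 16, 13, 1, 17, 18, 19, 18, 17, 1, 13, 16, 0], [13, 1, 17,
  18, 10, 19, 10, 18, 17, 1, 13], [16, 1, 17, 18, 10, 19, 10, 18, 17, 1, 16], [18, 0, 8, 19, 8, 0, 18], [0, 16, 13,
  17, 18, 19, 18, 17, 13, 16, 0], [13, 17, 18, 10, 19, 10, 18, 17, 13], [16, 17, 18, 10, 19, 10, 18, 17, 16], [9],
  [7, 18, 0, 16, 17, 18, 6, 19, 6, 18, 17, 16, 0, 18, 7], [5, 18, 17, 18, 6, 19, 6, 18, 17, 18, 5], [5, 18, 16, 17,
  18, 6, 19, 6, 18, 17, 16, 18, 5], [9, 2, 18, 19, 18, 2, 9], [0, 16, 17, 9, 2, 18, 19, 18, 2, 9, 17, 16, 0], [17, 9,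
  2, 18, 19, 18, 2, 9, 17], [16, 17, 9, 2, 18, 19, 18, 2, 9, 17, 16], [6, 19, 6], [18, 0, 16, 17, 18, 6, 19, 6, 18,
  17, 16, 0, 18], [18, 17, 18, 6, 19, 6, 18, 17, 18], [18, 16, 17, 18, 6, 19, 6, 18, 17, 16, 18], [9, 18, 19, 18, 9],
  [0, 16, 17, 9, 18, 19, 18, 9, 17, 16, 0], [17, 9, 18, 19, 18, 9, 17], [16, 17, 9, 18, 19, 18, 9, 17, 16], [4, 9,
  4], [4, 0, 16, 17, 9, 2, 18, 19, 18, 2, 9, 17, 16, 0, 4], [5, 18, 17, 18, 4, 6, 19, 6, 4, 18, 17, 18, 5], [4, 16,
  17, 9, 2, 18, 19, 18, 2, 9, 17, 16, 4], [9, 2, 18, 10, 19, 10, 18, 2, 9], [12, 0, 16, 17, 2, 18, 19, 18, 2, 17, 16,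
  0, 12], [17, 9, 2, 18, 10, 19, 10, 18, 2, 9, 17], [12, 16, 17, 2, 18, 19, 18, 2, 17, 16, 12], [4, 6, 19, 6, 4], [4,
  0, 16, 17, 9, 18, 19, 18, 9, 17, 16, 0, 4], [18, 17, 18, 4, 6, 19, 6, 4, 18, 17, 18], [4, 16, 17, 9, 18, 19, 18, 9,
  17, 16, 4], [9, 18, 10, 19, 10, 18, 9], [12, 0, 16, 17, 18, 19, 18, 17, 16, 0, 12], [17, 9, 18, 10, 19, 10, 18, 9,
  17], [12, 16, 17, 18, 19, 18, 17, 16, 12], [1, 9, 1], [4, 0, 16, 17, 2, 18, 8, 19, 8, 18, 2, 17, 16, 0, 4], [1, 17,
  9, 2, 18, 19, 18, 2, 9, 17, 1], [16, 1, 17, 9, 2, 18, 19, 18, 2, 9, 17, 1, 16], [9, 2, 18, 8, 19, 8, 18, 2, 9],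
  [17, 16, 13, 17, 2, 18, 19, 18, 2, 17, 13, 16, 17], [17, 2, 18, 8, 19, 8, 18, 2, 17], [16, 17, 2, 18, 8, 19, 8, 18,
  2, 17, 16], [1, 6, 19, 6, 1], [4, 0, 16, 17, 18, 8, 19, 8, 18, 17, 16, 0, 4], [1, 17, 9, 18, 19, 18, 9, 17, 1],
  [16, 1, 17, 9, 18, 19, 18, 9, 17, 1, 16], [9, 18, 8, 19, 8, 18, 9], [17, 16, 13, 17, 18, 19, 18, 17, 13, 16, 17],
  [17, 18, 8, 19, 8, 18, 17], [16, 17, 18, 8, 19, 8, 18, 17, 16], [0, 1, 9, 1, 0], [0, 16, 1, 17, 9, 2, 18, 19, 18,
  2, 9, 17, 1, 16, 0], [1, 17, 9, 2, 18, 10, 19, 10, 18, 2, 9, 17, 1], [4, 16, 17, 2, 18, 8, 19, 8, 18, 2, 17, 16,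
  4], [9, 2, 18, 0, 8, 19, 8, 0, 18, 2, 9], [0, 16, 17, 2, 18, 8, 19, 8, 18, 2, 17, 16, 0], [17, 2, 18, 0, 8, 19, 8,
  0, 18, 2, 17], [15, 16, 17, 2, 18, 8, 19, 8, 18, 2, 17, 16, 15], [0, 1, 6, 19, 6, 1, 0], [0, 16, 1, 17, 9, 18, 19,
  18, 9, 17, 1, 16, 0], [1, 17, 9, 18, 10, 19, 10, 18, 9, 17, 1], [4, 16, 17, 18, 8, 19, 8, 18, 17, 16, 4], [9, 18,
  0, 8, 19, 8, 0, 18, 9], [0, 16, 17, 18, 8, 19, 8, 18, 17, 16, 0], [17, 18, 0, 8, 19, 8, 0, 18, 17], [15, 16, 17,
  18, 8, 19, 8, 18, 17, 16, 15], [3], [19, 0, 16, 1, 17, 18, 19, 3, 19, 18, 17, 1, 16, 0, 19], [19, 1, 17, 18, 19, 3,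
  19, 18, 17, 1, 19], [19, 16, 1, 17, 18, 19, 3, 19, 18, 17, 1, 16, 19], [19, 18, 19, 3, 19, 18, 19], [19, 0, 16, 17,
  18, 19, 3, 19, 18, 17, 16, 0, 19], [19, 17, 18, 19, 3, 19, 18, 17, 19], [19, 16, 17, 18, 19, 3, 19, 18, 17, 16,
  19], [19, 3, 19], [0, 16, 1, 17, 18, 19, 3, 19, 18, 17, 1, 16, 0], [1, 17, 18, 19, 3, 19, 18, 17, 1], [16, 1, 17,
  18, 19, 3, 19, 18, 17, 1, 16], [18, 19, 3, 19, 18], [0, 16, 17, 18, 19, 3, 19, 18, 17, 16, 0], [17, 18, 19, 3, 19,
  18, 17], [16, 17, 18, 19, 3, 19, 18, 17, 16], [7, 3, 7], [7, 0, 16, 1, 17, 18, 19, 3, 19, 18, 17, 1, 16, 0, 7],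
  [19, 1, 17, 18, 19, 7, 3, 7, 19, 18, 17, 1, 19], [7, 16, 1, 17, 18, 19, 3, 19, 18, 17, 1, 16, 7], [19, 18, 19, 7,
  3, 7, 19, 18, 19], [7, 0, 16, 17, 18, 19, 3, 19, 18, 17, 16, 0, 7], [19, 17, 18, 19, 7, 3, 7, 19, 18, 17, 19], [7,
  16, 17, 18, 19, 3, 19, 18, 17, 16, 7], [19, 7, 3, 7, 19], [10, 0, 16, 1, 17, 18, 19, 18, 17, 1, 16, 0, 10], [1, 17,
  18, 19, 7, 3, 7, 19, 18, 17, 1], [10, 16, 1, 17, 18, 19, 18, 17, 1, 16, 10], [18, 19, 7, 3, 7, 19, 18], [10, 0, 16,
  17, 18, 19, 18, 17, 16, 0, 10], [17, 18, 19, 7, 3, 7, 19, 18, 17], [10, 16, 17, 18, 19, 18, 17, 16, 10], [5, 3, 5],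
  [4, 17, 16, 5, 17, 18, 6, 19, 6, 18, 17, 5, 16, 17, 4], [5, 1, 17, 18, 19, 3, 19, 18, 17, 1, 5], [16, 5, 1, 17, 18,
  19, 3, 19, 18, 17, 1, 5, 16], [19, 18, 19, 5, 3, 5, 19, 18, 19], [17, 16, 5, 17, 18, 6, 19, 6, 18, 17, 5, 16, 17],
  [5, 17, 18, 19, 3, 19, 18, 17, 5], [16, 5, 17, 18, 19, 3, 19, 18, 17, 5, 16], [19, 5, 3, 5, 19], [4, 17, 16, 17,
  18, 19, 5, 3, 5, 19, 18, 17, 16, 17, 4], [8, 1, 17, 18, 19, 18, 17, 1, 8], [16, 8, 1, 17, 18, 19, 18, 17, 1, 8,
  16], [18, 19, 5, 3, 5, 19, 18], [17, 16, 17, 18, 19, 5, 3, 5, 19, 18, 17, 16, 17], [8, 17, 18, 19, 18, 17, 8], [16,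
  8, 17, 18, 19, 18, 17, 8, 16], [0, 5, 3, 5, 0], [0, 16, 5, 1, 17, 18, 19, 3, 19, 18, 17, 1, 5, 16, 0], [5, 1, 17,
  18, 19, 7, 3, 7, 19, 18, 17, 1, 5], [7, 16, 8, 1, 17, 18, 19, 18, 17, 1, 8, 16, 7], [19, 18, 19, 0, 5, 3, 5, 0, 19,
  18, 19], [0, 16, 5, 17, 18, 19, 3, 19, 18, 17, 5, 16, 0], [5, 17, 18, 19, 7, 3, 7, 19, 18, 17, 5], [7, 16, 8, 17,
  18, 19, 18, 17, 8, 16, 7], [19, 0, 5, 3, 5, 0, 19], [0, 16, 8, 1, 17, 18, 19, 18, 17, 1, 8, 16, 0], [8, 1, 17, 18,
  10, 19, 10, 18, 17, 1, 8], [16, 1, 17, 18, 19, 7, 3, 7, 19, 18, 17, 1, 16], [18, 19, 0, 5, 3, 5, 0, 19, 18], [0,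
  16, 8, 17, 18, 19, 18, 17, 8, 16, 0], [8, 17, 18, 10, 19, 10, 18, 17, 8], [16, 17, 18, 19, 7, 3, 7, 19, 18, 17,
  16], [2, 3, 2], [0, 16, 5, 1, 17, 18, 6, 19, 6, 18, 17, 1, 5, 16, 0], [5, 1, 17, 18, 6, 19, 6, 18, 17, 1, 5], [16,
  5, 1, 17, 18, 6, 19, 6, 18, 17, 1, 5, 16], [2, 18, 19, 3, 19, 18, 2], [0, 16, 17, 2, 18, 19, 3, 19, 18, 2, 17, 16,
  0], [17, 2, 18, 19, 3, 19, 18, 2, 17], [16, 17, 2, 18, 19, 3, 19, 18, 2, 17, 16], [19, 2, 3, 2, 19], [18, 0, 16,
  17, 9, 18, 19, 18, 9, 17, 16, 0, 18], [18, 17, 9, 18, 19, 18, 9, 17, 18], [18, 16, 17, 9, 18, 19, 18, 9, 17, 16,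
  18], [18, 6, 19, 6, 18], [0, 16, 17, 18, 6, 19, 6, 18, 17, 16, 0], [17, 18, 6, 19, 6, 18, 17], [16, 17, 18, 6, 19,
  6, 18, 17, 16], [4, 2, 3, 2, 4], [4, 0, 16, 17, 2, 18, 19, 3, 19, 18, 2, 17, 16, 0, 4], [5, 1, 17, 18, 4, 6, 19, 6,
  4, 18, 17, 1, 5], [4, 16, 17, 2, 18, 19, 3, 19, 18, 2, 17, 16, 4], [2, 18, 19, 7, 3, 7, 19, 18, 2], [7, 0, 16, 17,
  18, 6, 19, 6, 18, 17, 16, 0, 7], [17, 2, 18, 19, 7, 3, 7, 19, 18, 2, 17], [7, 16, 17, 18, 6, 19, 6, 18, 17, 16, 7],
  [19, 4, 2, 3, 2, 4, 19], [4, 0, 16, 17, 18, 6, 19, 6, 18, 17, 16, 0, 4], [18, 17, 9, 18, 10, 19, 10, 18, 9, 17,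
  18], [4, 16, 17, 18, 6, 19, 6, 18, 17, 16, 4], [18, 4, 6, 19, 6, 4, 18], [12, 0, 16, 17, 18, 19, 3, 19, 18, 17, 16,
  0, 12], [17, 18, 4, 6, 19, 6, 4, 18, 17], [12, 16, 17, 18, 19, 3, 19, 18, 17, 16, 12], [1, 2, 3, 2, 1], [7, 0, 16,
  1, 17, 18, 6, 19, 6, 18, 17, 1, 16, 0, 7], [1, 17, 2, 18, 19, 3, 19, 18, 2, 17, 1], [16, 1, 17, 2, 18, 19, 3, 19,
  18, 2, 17, 1, 16], [2, 18, 19, 5, 3, 5, 19, 18, 2], [17, 16, 5, 17, 18, 19, 3, 19, 18, 17, 5, 16, 17], [5, 17, 18,
  6, 19, 6, 18, 17, 5], [16, 5, 17, 18, 6, 19, 6, 18, 17, 5, 16], [19, 1, 2, 3, 2, 1, 19], [18, 17, 16, 13, 17, 18,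
  19, 18, 17, 13, 16, 17, 18], [1, 17, 18, 6, 19, 6, 18, 17, 1], [16, 1, 17, 18, 6, 19, 6, 18, 17, 1, 16], [18, 1, 6,
  19, 6, 1, 18], [17, 16, 8, 17, 18, 19, 18, 17, 8, 16, 17], [17, 18, 19, 5, 3, 5, 19, 18, 17], [16, 17, 18, 19, 5,
  3, 5, 19, 18, 17, 16], [0, 1, 2, 3, 2, 1, 0], [0, 16, 1, 17, 2, 18, 19, 3, 19, 18, 2, 17, 1, 16, 0], [1, 17, 2, 18,
  19, 7, 3, 7, 19, 18, 2, 17, 1], [7, 16, 1, 17, 18, 6, 19, 6, 18, 17, 1, 16, 7], [2, 18, 19, 0, 5, 3, 5, 0, 19, 18,
  2], [0, 16, 5, 17, 18, 6, 19, 6, 18, 17, 5, 16, 0], [5, 17, 18, 4, 6, 19, 6, 4, 18, 17, 5], [7, 16, 17, 18, 19, 5,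
  3, 5, 19, 18, 17, 16, 7], [19, 0, 1, 2, 3, 2, 1, 0, 19], [0, 16, 1, 17, 18, 6, 19, 6, 18, 17, 1, 16, 0], [1, 17,
  18, 4, 6, 19, 6, 4, 18, 17, 1], [4, 16, 17, 18, 19, 5, 3, 5, 19, 18, 17, 16, 4], [18, 0, 1, 6, 19, 6, 1, 0, 18],
  [0, 16, 17, 18, 19, 5, 3, 5, 19, 18, 17, 16, 0], [17, 18, 19, 0, 5, 3, 5, 0, 19, 18, 17], [16, 17, 18, 4, 6, 19, 6,
  4, 18, 17, 16]]

theorem gen_ok : genOk (okG 8 G1) 20 C ws = true := by decide +kernel

theorem chk_ok : C.chk (okG 8 G1) = true := by decide +kernel

theorem nat0 : Nat0 8 G1 (sg 4 G1) (rhoSp 4) := nat0_sp (m := 4) (by decide +kernel) (by decide +kernel)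

theorem gen {K : Subgroup (Sp 4)} (hK : ∀ j < 20, sg 4 G1 j ∈ K) : K = ⊤ :=
  gen_sp (m := 4) nat0 (tw := tw) (by decide +kernel) hK

theorem ent0 : Ent ty C 248 0 (rows.getD 0 []) (zs.getD 0 0) :=
  ent_small syn 248 pm0 sp0 ds0 (by decide +kernel) (by decide +kernel)

theorem ent1 : Ent ty C 248 1 (rows.getD 1 []) (zs.getD 1 0) :=
  ent_small syn 248 pm1 sp1 ds1 (by decide +kernel) (by decide +kernel)

theorem ent2 : Ent ty C 248 2 (rows.getD 2 []) (zs.getD 2 0) :=
  ent_small syn 248 pm2 sp2 ds2 (by decide +kernel) (by decide +kernel)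

theorem ent4 : Ent ty C 248 4 (rows.getD 4 []) (zs.getD 4 0) :=
  ent_small syn 248 pm4 sp4 ds4 (by decide +kernel) (by decide +kernel)

theorem ent8 : Ent ty C 248 8 (rows.getD 8 []) (zs.getD 8 0) :=
  ent_small syn 248 pm8 sp8 ds8 (by decide +kernel) (by decide +kernel)

end Cfsg.Agent.E82.Mach.C4
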