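import Cfsg.Agent.E82.Mach.C4Ex

/-!
# The pressure machine: the simple modules of `Sp₈(2)` of dimension more than 248 (helper38)
-/

set_option autoImplicit false
set_option maxRecDepth 100000

namespace Cfsg.Agent.E82.Mach.C4

theorem pad1 : pmOk ty 1 48 G1 = true := by decide +kernel

theorem pad2 : pmOk ty 2 48 G2 = true := by decide +kernel

theorem pad4 : pmOk ty 4 48 G4 = true := by decide +kernel

theorem pad8 : pmOk ty 8 48 G8 = true := by decide +kernel

/-- a tree of words -/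
def pc6 : List (ℕ × ℕ) :=
  [(0, 17), (0, 18), (1, 16), (1, 18), (2, 17), (2, 19), (3, 18), (4, 2), (4, 17), (4, 19), (5, 1), (5, 16), (5, 19),
  (6, 18), (7, 2), (7, 17), (7, 19), (8, 19), (9, 16), (9, 19), (10, 3), (10, 18), (11, 16), (11, 19), (12, 0), (12,
  19), (13, 18), (14, 17), (15, 17), (15, 19), (16, 1), (16, 16), (16, 19), (17, 3), (17, 18), (18, 18), (19, 0),
  (19, 19), (20, 3), (20, 18), (21, 18), (22, 2), (22, 17), (23, 19), (24, 18), (25, 19), (26, 18), (27, 2), (27,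
  17), (27, 19), (28, 1), (28, 16), (28, 18), (29, 19), (30, 18), (31, 19), (32, 19), (33, 3), (33, 18), (34, 18),
  (35, 2), (35, 17), (36, 17), (37, 19), (38, 3), (38, 18), (39, 18), (40, 2), (40, 17), (40, 19), (41, 17), (42,
  17), (43, 1), (43, 16), (43, 18), (44, 18), (45, 2), (45, 17), (45, 19), (46, 18), (47, 2), (47, 17), (47, 19),
  (48, 19), (49, 5), (49, 16), (49, 19), (50, 3), (51, 16), (52, 0), (52, 18), (53, 19), (54, 18), (55, 17), (56, 3),
  (56, 18), (57, 3), (57, 18), (58, 18), (59, 2), (59, 17), (59, 19), (60, 17), (61, 17), (62, 1), (62, 16), (62,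
  18), (63, 1), (63, 16), (64, 3), (64, 18), (65, 18), (66, 2), (66, 17), (66, 19), (67, 2), (67, 19), (68, 17), (69,
  16), (69, 19), (71, 16), (72, 1), (72, 16), (73, 16), (74, 0), (74, 17), (74, 18), (75, 5), (75, 19), (76, 2), (76,
  17), (76, 19), (78, 16), (78, 19), (80, 2), (80, 17), (80, 19), (81, 17), (81, 19), (82, 1), (82, 5), (82, 16),
  (82, 19), (83, 3), (85, 16), (86, 0), (86, 17), (86, 19), (87, 18), (89, 0), (90, 18), (91, 17), (91, 19), (92,
  18), (93, 2), (93, 17), (93, 19), (94, 1), (94, 16), (94, 18), (95, 18), (96, 2), (96, 17), (96, 19), (97, 18),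
  (98, 2), (98, 17), (98, 19), (99, 2), (99, 19), (100, 17), (100, 19), (101, 1), (101, 5), (101, 16), (101, 19),
  (102, 3), (102, 6), (103, 1), (103, 16), (103, 18), (104, 1), (104, 16), (105, 16), (106, 18), (107, 5), (107, 19),
  (108, 16), (109, 0), (109, 17), (110, 18), (111, 2), (111, 17), (111, 19), (112, 2), (112, 17), (112, 19), (113,
  17), (114, 1), (114, 16), (114, 18), (114, 19), (118, 16), (119, 0), (119, 17), (119, 19), (120, 18), (121, 0),
  (121, 17), (122, 16), (123, 0), (123, 17), (124, 0), (125, 18), (126, 4), (126, 18), (127, 5), (127, 17), (127,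
  19), (129, 18), (131, 1), (131, 16), (131, 18), (131, 19), (133, 0), (133, 17), (133, 19), (134, 18), (135, 17),
  (136, 16), (136, 19), (137, 3), (138, 1), (138, 19), (140, 5), (140, 19), (141, 16), (142, 4), (142, 19), (143, 3),
  (143, 18), (146, 19), (147, 19), (148, 18), (149, 3), (151, 19), (152, 19), (153, 18)]

/-- a tree of words -/
def pv6 : List (ℕ × ℕ) :=
  [(0, 1), (0, 2), (0, 4), (0, 5), (0, 6), (0, 7), (0, 8), (0, 9), (0, 10), (0, 11), (0, 12), (0, 13), (0, 14), (0,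
  15), (1, 2), (1, 5), (1, 6), (1, 7), (1, 8), (1, 9), (1, 10), (1, 11), (1, 12), (1, 13), (1, 14), (1, 15), (2, 1),
  (2, 4), (2, 5), (2, 7), (2, 8), (2, 10), (2, 11), (2, 12), (2, 13), (2, 14), (2, 15), (3, 2), (3, 5), (3, 6), (3,
  7), (3, 8), (3, 9), (3, 10), (3, 11), (3, 12), (3, 13), (3, 14), (3, 15), (4, 0), (4, 3), (4, 6), (4, 8), (4, 9),
  (4, 10), (4, 11), (4, 12), (4, 13), (4, 14), (4, 15), (5, 1), (5, 4), (5, 5), (5, 7), (5, 8), (5, 10), (5, 11), (5,
  12), (5, 13), (5, 14), (5, 15), (6, 3), (6, 6), (6, 8), (6, 9), (6, 10), (6, 11), (6, 12), (6, 13), (6, 14), (6,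
  15), (7, 0), (7, 2), (7, 7), (7, 9), (7, 11), (7, 12), (7, 14), (7, 15), (8, 1), (8, 4), (8, 10), (8, 11), (8, 12),
  (8, 13), (8, 14), (8, 15), (9, 2), (9, 5), (9, 11), (9, 12), (9, 13), (9, 14), (10, 0), (10, 4), (10, 13), (10,
  14), (10, 15), (11, 1), (11, 13), (11, 14), (11, 15), (12, 0), (12, 14), (12, 15), (12, 17), (13, 15), (15, 3),
  (15, 4), (15, 6), (15, 8), (15, 9), (15, 10), (15, 11), (15, 12), (15, 13), (15, 14), (15, 15), (16, 0), (16, 6),
  (16, 7), (16, 9), (16, 10), (16, 11), (16, 12), (16, 14), (16, 15), (17, 4), (17, 5), (17, 7), (17, 11), (17, 12),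
  (17, 13), (17, 14), (17, 15), (18, 3), (18, 6), (18, 8), (18, 9), (18, 10), (18, 11), (18, 12), (18, 13), (18, 14),
  (18, 15), (19, 0), (19, 2), (19, 7), (19, 9), (19, 10), (19, 11), (19, 12), (19, 14), (19, 15), (20, 4), (20, 10),
  (20, 11), (20, 12), (20, 13), (20, 14), (20, 15), (21, 2), (21, 5), (21, 11), (21, 12), (21, 13), (21, 14), (22,
  0), (22, 4), (22, 12), (22, 13), (22, 15), (23, 13), (23, 15), (24, 0), (24, 14), (24, 15), (25, 15), (26, 16),
  (27, 6), (27, 8), (27, 9), (27, 10), (27, 11), (27, 12), (27, 14), (27, 15), (28, 6), (28, 8), (28, 9), (28, 10),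
  (28, 11), (28, 12), (28, 13), (28, 14), (28, 15), (29, 10), (29, 12), (29, 14), (29, 15), (30, 3), (30, 6), (30,
  8), (30, 10), (30, 11), (30, 12), (30, 13), (30, 14), (30, 15), (31, 0), (31, 7), (31, 12), (31, 13), (31, 14),
  (31, 15), (32, 5), (32, 11), (32, 13), (32, 14), (32, 15), (32, 19), (33, 0), (33, 4), (33, 14), (33, 15), (34, 1),
  (34, 13), (34, 14), (35, 0), (35, 14), (35, 15), (36, 15), (38, 6), (38, 8), (38, 10), (38, 11), (38, 13), (38,
  14), (39, 3), (39, 6), (39, 8), (39, 9), (39, 10), (39, 11), (39, 12), (39, 13), (39, 14), (39, 15), (40, 5), (40,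
  7), (40, 11), (40, 12), (40, 13), (40, 14), (40, 15), (41, 6), (41, 8), (41, 11), (41, 13), (41, 14), (42, 2), (42,
  7), (42, 9), (42, 11), (42, 12), (42, 14), (42, 15), (43, 1), (43, 4)]

theorem rk6 : Nat.blt 248 (bigRk 48 [G2, G4] pc6 pv6) = true := by decide +kernel

theorem ent6 (C : Cls) (row : List ℕ) (z : ℕ) : Ent ty C 248 6 row z :=
  ent_big syn C (s := 48) (2, G2) [(4, G4)]
    ((Bool.and_eq_true _ _).mpr ⟨pad2, (Bool.and_eq_true _ _).mpr ⟨pad4, rfl⟩⟩)
    (by decide) (by decide) rk6 row z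

/-- a tree of words -/
def pc7 : List (ℕ × ℕ) :=
  [(0, 16), (0, 17), (0, 18), (1, 17), (1, 18), (2, 16), (2, 18), (3, 17), (3, 19), (4, 1), (4, 16), (4, 18), (5,
  17), (5, 19), (6, 0), (6, 18), (7, 2), (7, 17), (7, 19), (8, 1), (8, 16), (8, 19), (9, 18), (10, 18), (11, 18),
  (12, 2), (12, 17), (12, 19), (13, 1), (13, 16), (13, 18), (13, 19), (14, 18), (15, 18), (16, 2), (16, 17), (16,
  19), (17, 19), (18, 16), (18, 19), (19, 3), (19, 18), (20, 16), (20, 19), (21, 0), (21, 17), (21, 19), (22, 18),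
  (23, 17), (24, 2), (24, 17), (24, 19), (25, 2), (25, 17), (25, 19), (26, 19), (27, 5), (27, 16), (27, 19), (28, 3),
  (28, 18), (29, 16), (29, 19), (30, 18), (30, 19), (31, 19), (32, 18), (33, 17), (34, 17), (34, 19), (35, 17), (35,
  19), (36, 16), (36, 18), (36, 19), (37, 3), (37, 18), (38, 18), (39, 19), (40, 3), (40, 18), (41, 18), (42, 2),
  (42, 17), (43, 19), (44, 18), (45, 19), (46, 4), (46, 19), (47, 18), (48, 2), (48, 17), (48, 19), (49, 1), (49,
  16), (49, 18), (50, 19), (51, 19), (52, 3), (52, 18), (53, 19), (54, 19), (55, 3), (55, 18), (56, 3), (56, 18),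
  (57, 19), (58, 19), (59, 3), (59, 18), (60, 18), (61, 2), (61, 9), (61, 17), (62, 19), (63, 18), (64, 19), (65,
  18), (66, 3), (66, 18), (67, 2), (67, 17), (67, 19), (68, 1), (68, 16), (68, 18), (69, 19), (70, 18), (71, 19),
  (72, 18), (73, 19), (75, 18), (76, 18), (77, 2), (77, 17), (78, 17), (79, 18), (80, 18), (81, 2), (81, 17), (81,
  19), (82, 17), (83, 17), (84, 1), (84, 16), (84, 18), (85, 18), (86, 2), (86, 17), (86, 19), (87, 18), (89, 18),
  (90, 2), (90, 17), (90, 19), (91, 19), (92, 5), (92, 16), (92, 19), (93, 3), (94, 16), (95, 0), (95, 17), (95, 18),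
  (96, 19), (97, 18), (98, 18), (99, 18), (100, 2), (100, 17), (101, 18), (102, 18), (103, 18), (104, 2), (104, 9),
  (104, 17), (106, 17), (106, 19), (107, 18), (108, 18), (109, 18), (110, 2), (110, 9), (110, 17), (110, 19), (111,
  17), (112, 17), (113, 17), (114, 1), (114, 8), (114, 13), (114, 16), (114, 18), (115, 18), (116, 2), (116, 17),
  (116, 19), (117, 18), (118, 17), (118, 19), (120, 2), (120, 17), (120, 19), (121, 19), (122, 5), (122, 16), (122,
  19), (123, 3), (124, 16), (125, 18), (126, 19), (127, 18), (128, 17), (129, 18), (130, 17), (131, 18), (132, 2),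
  (132, 3), (132, 5), (132, 17), (132, 19), (133, 17), (134, 17), (135, 1), (135, 16), (135, 18), (136, 16), (137,
  0), (137, 2), (137, 3), (137, 17), (137, 19), (138, 19), (139, 17), (140, 16), (143, 16), (145, 0), (145, 17),
  (145, 18), (147, 2), (147, 17), (147, 19), (149, 16), (151, 17), (151, 19), (152, 17), (152, 19), (153, 17)]

/-- a tree of words -/
def pv7 : List (ℕ × ℕ) :=
  [(0, 0), (0, 1), (0, 2), (0, 4), (0, 5), (0, 6), (0, 7), (0, 8), (0, 9), (0, 10), (0, 11), (0, 12), (0, 13), (0,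
  14), (0, 15), (1, 1), (1, 2), (1, 4), (1, 5), (1, 6), (1, 7), (1, 8), (1, 9), (1, 10), (1, 11), (1, 12), (1, 13),
  (1, 14), (1, 15), (2, 0), (2, 2), (2, 4), (2, 5), (2, 6), (2, 7), (2, 8), (2, 9), (2, 10), (2, 11), (2, 12), (2,
  13), (2, 14), (2, 15), (3, 1), (3, 4), (3, 5), (3, 7), (3, 8), (3, 10), (3, 11), (3, 12), (3, 13), (3, 14), (3,
  15), (4, 2), (4, 5), (4, 6), (4, 7), (4, 8), (4, 9), (4, 10), (4, 11), (4, 12), (4, 13), (4, 14), (4, 15), (5, 0),
  (5, 3), (5, 6), (5, 7), (5, 8), (5, 9), (5, 10), (5, 11), (5, 12), (5, 13), (5, 14), (5, 15), (6, 1), (6, 4), (6,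
  5), (6, 7), (6, 8), (6, 10), (6, 11), (6, 12), (6, 13), (6, 14), (6, 15), (7, 3), (7, 6), (7, 8), (7, 9), (7, 10),
  (7, 11), (7, 12), (7, 13), (7, 14), (7, 15), (8, 0), (8, 2), (8, 7), (8, 9), (8, 10), (8, 11), (8, 12), (8, 14),
  (8, 15), (9, 1), (9, 4), (9, 10), (9, 11), (9, 12), (9, 13), (9, 14), (9, 15), (10, 2), (10, 5), (10, 11), (10,
  12), (10, 13), (10, 14), (10, 15), (11, 0), (11, 4), (11, 12), (11, 13), (11, 14), (11, 15), (12, 1), (12, 13),
  (12, 14), (12, 15), (13, 0), (13, 14), (13, 15), (13, 17), (14, 15), (15, 16), (16, 2), (16, 5), (16, 6), (16, 7),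
  (16, 8), (16, 9), (16, 10), (16, 11), (16, 12), (16, 13), (16, 14), (16, 15), (17, 1), (17, 4), (17, 5), (17, 7),
  (17, 8), (17, 10), (17, 11), (17, 12), (17, 13), (17, 14), (17, 15), (18, 2), (18, 5), (18, 6), (18, 7), (18, 8),
  (18, 9), (18, 10), (18, 11), (18, 12), (18, 13), (18, 14), (18, 15), (19, 3), (19, 6), (19, 8), (19, 9), (19, 10),
  (19, 11), (19, 12), (19, 13), (19, 14), (19, 15), (20, 1), (20, 4), (20, 5), (20, 7), (20, 8), (20, 10), (20, 11),
  (20, 12), (20, 13), (20, 14), (20, 15), (21, 3), (21, 6), (21, 8), (21, 9), (21, 10), (21, 11), (21, 12), (21, 13),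
  (21, 14), (21, 15), (22, 2), (22, 7), (22, 9), (22, 11), (22, 12), (22, 13), (22, 14), (22, 15), (23, 1), (23, 4),
  (23, 10), (23, 11), (23, 12), (23, 13), (23, 14), (23, 15), (24, 2), (24, 5), (24, 11), (24, 12), (24, 13), (24,
  14), (25, 4), (25, 13), (25, 14), (25, 15), (26, 1), (26, 13), (26, 14), (26, 15), (27, 14), (27, 15), (27, 17),
  (28, 15), (30, 2), (30, 5), (30, 6), (30, 7), (30, 8), (30, 9), (30, 10), (30, 11), (30, 12), (30, 13), (30, 14),
  (30, 15), (31, 3), (31, 4), (31, 6), (31, 7), (31, 8), (31, 9), (31, 10), (31, 11), (31, 12), (31, 13), (31, 14),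
  (31, 15), (32, 2), (32, 5), (32, 6), (32, 7), (32, 8), (32, 9), (32, 10), (32, 11), (32, 12), (32, 13), (32, 14),
  (32, 15), (33, 0), (33, 6), (33, 7), (33, 9), (33, 10), (33, 11), (33, 12), (33, 14), (33, 15), (34, 4), (34, 5),
  (34, 7), (34, 10), (34, 11), (34, 12), (34, 13), (34, 14), (34, 15), (35, 3), (35, 6), (35, 8), (35, 9), (35, 10),
  (35, 11)]

theorem rk7 : Nat.blt 248 (bigRk 48 [G1, G2, G4] pc7 pv7) = true := by decide +kernel

theorem ent7 (C : Cls) (row : List ℕ) (z : ℕ) : Ent ty C 248 7 row z :=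
  ent_big syn C (s := 48) (1, G1) [(2, G2), (4, G4)]
    ((Bool.and_eq_true _ _).mpr ⟨pad1, (Bool.and_eq_true _ _).mpr ⟨pad2, (Bool.and_eq_true _ _).mpr ⟨pad4, rfl⟩⟩⟩)
    (by decide) (by decide) rk7 row z

/-- a tree of words -/
def pc10 : List (ℕ × ℕ) :=
  [(0, 17), (0, 19), (1, 16), (1, 18), (1, 19), (2, 18), (3, 18), (3, 19), (4, 19), (5, 18), (6, 17), (6, 19), (7,
  17), (7, 19), (8, 18), (9, 3), (9, 18), (10, 2), (10, 17), (10, 19), (11, 1), (11, 16), (11, 19), (13, 19), (14,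
  3), (14, 18), (15, 2), (15, 17), (15, 19), (16, 18), (17, 2), (17, 17), (17, 19), (18, 19), (19, 16), (19, 19),
  (20, 3), (21, 16), (21, 19), (22, 0), (22, 19), (23, 18), (24, 3), (24, 18), (25, 18), (26, 2), (26, 17), (26, 19),
  (27, 17), (27, 19), (28, 1), (28, 16), (28, 19), (29, 3), (30, 2), (30, 17), (30, 19), (31, 17), (32, 1), (32, 16),
  (32, 19), (35, 0), (35, 19), (36, 3), (36, 18), (38, 19), (39, 18), (40, 19), (41, 18), (42, 2), (42, 19), (43,
  18), (44, 2), (44, 17), (44, 19), (45, 2), (45, 17), (45, 19), (46, 17), (47, 1), (47, 16), (47, 18), (47, 19),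
  (49, 19), (51, 19), (52, 19), (53, 3), (53, 18), (56, 16), (56, 19), (58, 16), (59, 16), (59, 19), (60, 0), (60,
  17), (60, 19), (61, 18), (62, 19), (63, 3), (63, 18), (64, 18), (65, 2), (65, 19), (66, 18), (67, 19), (68, 18),
  (69, 2), (69, 17), (69, 19), (70, 19), (71, 3), (72, 2), (72, 17), (72, 19), (73, 17), (73, 19), (74, 16), (74,
  19), (75, 3), (75, 6), (76, 17), (77, 1), (77, 16), (77, 18), (77, 19), (79, 1), (79, 16), (80, 16), (80, 19), (81,
  18), (81, 19), (82, 5), (82, 19), (83, 18), (84, 18), (85, 3), (85, 18), (86, 3), (86, 18), (87, 18), (88, 2), (88,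
  17), (88, 19), (89, 19), (91, 0), (92, 0), (92, 19), (94, 19), (95, 4), (95, 18), (95, 19), (96, 18), (97, 19),
  (98, 3), (98, 18), (99, 18), (100, 2), (100, 17), (100, 19), (101, 19), (104, 17), (104, 19), (106, 2), (106, 17),
  (106, 19), (107, 17), (107, 19), (108, 1), (108, 19), (109, 3), (113, 16), (113, 19), (114, 3), (114, 18), (115,
  16), (115, 19), (117, 19), (118, 3), (118, 6), (118, 18), (123, 19), (124, 19), (125, 18), (128, 19), (129, 18),
  (130, 19), (131, 18), (132, 19), (133, 3), (133, 18), (134, 2), (134, 5), (134, 19), (135, 2), (135, 19), (137, 2),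
  (137, 19), (138, 18), (139, 2), (139, 17), (139, 19), (140, 19), (141, 19), (142, 5), (142, 16), (142, 19), (143,
  3), (143, 6), (146, 19), (148, 18), (149, 19), (150, 19), (151, 18), (152, 17), (152, 19), (155, 2), (155, 17),
  (155, 19), (156, 17), (156, 19), (157, 17), (158, 1), (158, 16), (158, 18), (158, 19), (161, 1), (161, 19), (163,
  19), (164, 19), (165, 3), (166, 19), (168, 19), (169, 3), (169, 18), (171, 19), (172, 3), (172, 18), (174, 17),
  (175, 19), (176, 18), (177, 3), (177, 18), (178, 18), (180, 2), (180, 9), (180, 17), (180, 19), (181, 18)]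

/-- a tree of words -/
def pv10 : List (ℕ × ℕ) :=
  [(0, 1), (0, 3), (0, 4), (0, 5), (0, 6), (0, 7), (0, 8), (0, 9), (0, 10), (0, 11), (0, 12), (0, 13), (0, 14), (0,
  15), (1, 3), (1, 6), (1, 7), (1, 8), (1, 9), (1, 10), (1, 11), (1, 12), (1, 13), (1, 14), (1, 15), (2, 4), (2, 5),
  (2, 7), (2, 8), (2, 10), (2, 11), (2, 12), (2, 13), (2, 14), (2, 15), (3, 6), (3, 8), (3, 9), (3, 10), (3, 11), (3,
  12), (3, 13), (3, 14), (3, 15), (4, 3), (4, 6), (4, 8), (4, 9), (4, 10), (4, 11), (4, 12), (4, 13), (4, 14), (4,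
  15), (5, 1), (5, 4), (5, 5), (5, 7), (5, 8), (5, 10), (5, 11), (5, 12), (5, 13), (5, 14), (5, 15), (6, 3), (6, 6),
  (6, 8), (6, 9), (6, 10), (6, 11), (6, 12), (6, 13), (6, 14), (6, 15), (7, 0), (7, 2), (7, 7), (7, 9), (7, 12), (7,
  13), (7, 14), (7, 15), (7, 19), (8, 1), (8, 4), (8, 10), (8, 11), (8, 12), (8, 13), (8, 14), (8, 15), (9, 2), (9,
  5), (9, 11), (9, 13), (9, 14), (9, 15), (9, 19), (10, 0), (10, 4), (10, 13), (10, 14), (10, 15), (11, 1), (11, 13),
  (11, 14), (11, 15), (12, 0), (12, 14), (12, 15), (13, 15), (15, 7), (15, 9), (15, 10), (15, 11), (15, 12), (15,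
  14), (15, 15), (16, 4), (16, 5), (16, 7), (16, 9), (16, 12), (16, 13), (16, 14), (16, 15), (17, 3), (17, 6), (17,
  8), (17, 9), (17, 10), (17, 11), (17, 12), (17, 13), (17, 14), (17, 15), (18, 0), (18, 2), (18, 7), (18, 9), (18,
  10), (18, 12), (18, 14), (18, 15), (19, 4), (19, 10), (19, 11), (19, 12), (19, 14), (19, 15), (20, 2), (20, 5),
  (20, 11), (20, 12), (20, 13), (20, 15), (20, 19), (21, 0), (21, 4), (21, 12), (21, 15), (22, 13), (22, 15), (23,
  0), (23, 14), (23, 15), (24, 15), (26, 9), (26, 11), (26, 12), (26, 13), (26, 14), (27, 0), (27, 6), (27, 10), (27,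
  12), (27, 14), (27, 15), (28, 6), (28, 8), (28, 10), (28, 11), (28, 13), (28, 14), (28, 15), (29, 7), (29, 11),
  (29, 12), (29, 14), (29, 15), (30, 2), (30, 5), (30, 11), (30, 12), (30, 13), (30, 14), (31, 0), (31, 4), (31, 14),
  (31, 15), (32, 1), (32, 13), (32, 14), (32, 15), (33, 0), (33, 14), (33, 15), (34, 15), (36, 5), (36, 11), (36,
  13), (36, 14), (36, 15), (37, 2), (37, 7), (37, 9), (37, 11), (37, 12), (37, 13), (37, 15), (38, 1), (38, 11), (38,
  12), (38, 13), (38, 14), (39, 5), (39, 11), (39, 13), (40, 13), (40, 15), (41, 1), (41, 13), (42, 14), (45, 7),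
  (45, 10), (45, 12), (45, 14), (45, 15), (46, 4), (46, 7), (46, 10), (46, 14), (46, 15), (47, 0), (47, 7), (47, 10),
  (47, 12), (47, 15), (48, 4), (48, 10), (48, 12), (48, 14), (48, 15), (49, 11), (49, 13), (49, 15), (50, 0), (50,
  4), (50, 12), (50, 14), (50, 15), (51, 1), (51, 13), (51, 15), (52, 14), (52, 15), (53, 15), (55, 7), (55, 12),
  (55, 14), (55, 15), (56, 5)]

theorem rk10 : Nat.blt 248 (bigRk 48 [G2, G8] pc10 pv10) = true := by decide +kernel

theorem ent10 (C : Cls) (row : List ℕ) (z : ℕ) : Ent ty C 248 10 row z :=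
  ent_big syn C (s := 48) (2, G2) [(8, G8)]
    ((Bool.and_eq_true _ _).mpr ⟨pad2, (Bool.and_eq_true _ _).mpr ⟨pad8, rfl⟩⟩)
    (by decide) (by decide) rk10 row z

/-- a tree of words -/
def pc11 : List (ℕ × ℕ) :=
  [(0, 16), (0, 17), (0, 19), (1, 17), (1, 19), (2, 16), (2, 18), (2, 19), (3, 18), (4, 1), (4, 16), (4, 18), (4,
  19), (5, 18), (6, 0), (6, 18), (6, 19), (7, 19), (8, 18), (9, 17), (9, 19), (10, 18), (10, 19), (11, 18), (11, 19),
  (12, 2), (12, 19), (13, 18), (14, 17), (14, 19), (15, 18), (15, 19), (16, 17), (16, 19), (17, 18), (18, 3), (18,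
  18), (19, 2), (19, 17), (19, 19), (20, 1), (20, 16), (20, 19), (22, 19), (23, 18), (24, 2), (24, 17), (24, 19),
  (25, 18), (26, 19), (27, 3), (27, 18), (28, 2), (28, 17), (28, 19), (29, 1), (29, 16), (29, 18), (29, 19), (31,
  17), (31, 19), (32, 18), (33, 1), (33, 19), (34, 3), (34, 18), (35, 2), (35, 17), (35, 19), (36, 18), (37, 2), (37,
  17), (37, 19), (38, 19), (39, 16), (39, 19), (40, 3), (41, 16), (41, 19), (42, 0), (42, 17), (42, 19), (43, 18),
  (44, 3), (44, 18), (45, 2), (45, 17), (45, 19), (46, 19), (47, 19), (48, 3), (48, 18), (49, 17), (49, 19), (50,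
  18), (51, 18), (52, 2), (52, 9), (52, 17), (52, 19), (53, 19), (54, 5), (54, 16), (54, 19), (55, 3), (56, 16), (56,
  19), (57, 18), (57, 19), (58, 19), (59, 18), (60, 19), (61, 18), (62, 17), (63, 19), (64, 18), (65, 18), (66, 2),
  (66, 17), (66, 19), (67, 17), (67, 19), (68, 1), (68, 16), (68, 18), (68, 19), (69, 3), (70, 2), (70, 17), (70,
  19), (71, 17), (72, 1), (72, 16), (72, 19), (75, 0), (75, 17), (75, 19), (76, 3), (76, 18), (78, 19), (79, 18),
  (80, 19), (81, 4), (81, 19), (82, 18), (83, 2), (83, 19), (84, 18), (85, 2), (85, 17), (85, 19), (86, 19), (87,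
  16), (87, 19), (88, 3), (89, 18), (90, 18), (91, 18), (92, 2), (92, 17), (92, 19), (93, 19), (94, 2), (94, 3), (95,
  2), (95, 17), (95, 19), (96, 2), (96, 17), (96, 19), (97, 17), (97, 19), (98, 17), (98, 19), (99, 1), (99, 13),
  (99, 16), (99, 19), (100, 6), (102, 19), (103, 19), (104, 3), (104, 18), (107, 18), (108, 19), (109, 18), (110, 3),
  (110, 18), (111, 2), (111, 19), (112, 18), (113, 17), (114, 19), (115, 18), (116, 2), (116, 3), (116, 17), (116,
  19), (117, 2), (117, 17), (117, 19), (118, 17), (119, 1), (119, 16), (119, 18), (119, 19), (121, 19), (122, 0),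
  (123, 19), (124, 19), (126, 3), (126, 18), (129, 16), (129, 19), (131, 16), (132, 16), (132, 19), (133, 0), (133,
  17), (133, 19), (134, 18), (135, 19), (136, 19), (137, 3), (137, 18), (138, 18), (139, 2), (139, 19), (140, 0),
  (140, 18), (141, 19), (142, 18), (144, 18), (145, 2), (145, 17), (145, 19), (146, 19), (147, 3), (148, 19), (149,
  17), (150, 1), (150, 16), (150, 18), (150, 19), (154, 18), (156, 2), (156, 17), (157, 2)]

/-- a tree of words -/
def pv11 : List (ℕ × ℕ) :=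
  [(0, 0), (0, 1), (0, 3), (0, 4), (0, 5), (0, 6), (0, 7), (0, 8), (0, 9), (0, 10), (0, 11), (0, 12), (0, 13), (0,
  14), (0, 15), (1, 1), (1, 3), (1, 4), (1, 5), (1, 6), (1, 7), (1, 8), (1, 9), (1, 10), (1, 11), (1, 12), (1, 13),
  (1, 14), (1, 15), (2, 0), (2, 3), (2, 4), (2, 6), (2, 7), (2, 8), (2, 9), (2, 10), (2, 11), (2, 12), (2, 13), (2,
  14), (2, 15), (3, 4), (3, 5), (3, 7), (3, 8), (3, 10), (3, 11), (3, 12), (3, 13), (3, 14), (3, 15), (4, 2), (4, 5),
  (4, 6), (4, 8), (4, 9), (4, 10), (4, 11), (4, 12), (4, 13), (4, 14), (4, 15), (5, 0), (5, 3), (5, 6), (5, 7), (5,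
  8), (5, 9), (5, 10), (5, 11), (5, 12), (5, 13), (5, 14), (5, 15), (6, 1), (6, 4), (6, 5), (6, 7), (6, 8), (6, 10),
  (6, 11), (6, 12), (6, 13), (6, 14), (6, 15), (7, 3), (7, 6), (7, 8), (7, 9), (7, 10), (7, 11), (7, 12), (7, 13),
  (7, 14), (7, 15), (8, 0), (8, 2), (8, 7), (8, 9), (8, 10), (8, 12), (8, 13), (8, 14), (8, 15), (8, 19), (9, 1), (9,
  4), (9, 10), (9, 11), (9, 12), (9, 13), (9, 14), (9, 15), (10, 2), (10, 5), (10, 11), (10, 13), (10, 14), (10, 15),
  (10, 19), (11, 0), (11, 4), (11, 12), (11, 13), (11, 14), (11, 15), (12, 1), (12, 13), (12, 14), (12, 15), (13, 0),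
  (13, 14), (13, 15), (14, 15), (15, 16), (16, 2), (16, 3), (16, 6), (16, 7), (16, 8), (16, 9), (16, 10), (16, 11),
  (16, 12), (16, 13), (16, 14), (16, 15), (17, 4), (17, 5), (17, 7), (17, 8), (17, 10), (17, 11), (17, 12), (17, 13),
  (17, 14), (17, 15), (18, 6), (18, 8), (18, 9), (18, 10), (18, 11), (18, 12), (18, 13), (18, 14), (18, 15), (19, 3),
  (19, 6), (19, 8), (19, 9), (19, 10), (19, 11), (19, 12), (19, 13), (19, 14), (19, 15), (20, 1), (20, 4), (20, 5),
  (20, 7), (20, 8), (20, 10), (20, 11), (20, 12), (20, 13), (20, 14), (20, 15), (21, 3), (21, 6), (21, 8), (21, 9),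
  (21, 10), (21, 11), (21, 12), (21, 13), (21, 14), (21, 15), (22, 2), (22, 7), (22, 9), (22, 12), (22, 13), (22,
  14), (22, 15), (22, 19), (23, 1), (23, 4), (23, 10), (23, 11), (23, 12), (23, 13), (23, 14), (23, 15), (24, 2),
  (24, 5), (24, 11), (24, 13), (24, 14), (24, 15), (24, 19), (25, 4), (25, 13), (25, 14), (25, 15), (26, 1), (26,
  13), (26, 14), (26, 15), (27, 14), (27, 15), (27, 17), (28, 15), (30, 3), (30, 5), (30, 6), (30, 8), (30, 9), (30,
  10), (30, 11), (30, 12), (30, 13), (30, 14), (30, 15), (31, 4), (31, 7), (31, 9), (31, 10), (31, 11), (31, 12),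
  (31, 14), (31, 15), (32, 6), (32, 8), (32, 9), (32, 10), (32, 11), (32, 12), (32, 13), (32, 14), (32, 15), (33, 4),
  (33, 5), (33, 7), (33, 9), (33, 10), (33, 12), (33, 13), (33, 14), (33, 15), (34, 3), (34, 6), (34, 8), (34, 9),
  (34, 10), (34, 11), (34, 12), (34, 13), (34, 14), (34, 15), (35, 0), (35, 2), (35, 7), (35, 9), (35, 10), (35, 12),
  (35, 14), (35, 15), (36, 4), (36, 10), (36, 11), (36, 12)]

theorem rk11 : Nat.blt 248 (bigRk 48 [G1, G2, G8] pc11 pv11) = true := by decide +kernel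

theorem ent11 (C : Cls) (row : List ℕ) (z : ℕ) : Ent ty C 248 11 row z :=
  ent_big syn C (s := 48) (1, G1) [(2, G2), (8, G8)]
    ((Bool.and_eq_true _ _).mpr ⟨pad1, (Bool.and_eq_true _ _).mpr ⟨pad2, (Bool.and_eq_true _ _).mpr ⟨pad8, rfl⟩⟩⟩)
    (by decide) (by decide) rk11 row z

/-- a tree of words -/
def pc12 : List (ℕ × ℕ) :=
  [(0, 18), (0, 19), (1, 17), (1, 19), (2, 18), (3, 16), (3, 19), (4, 3), (4, 18), (5, 2), (5, 17), (5, 19), (6, 19),
  (7, 3), (7, 18), (8, 18), (9, 2), (9, 17), (9, 19), (10, 17), (10, 19), (11, 1), (11, 16), (11, 19), (12, 3), (13,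
  3), (13, 18), (14, 18), (15, 2), (15, 17), (15, 19), (16, 2), (16, 17), (16, 19), (17, 17), (18, 1), (18, 16), (18,
  18), (18, 19), (20, 16), (20, 19), (22, 16), (22, 19), (23, 0), (23, 19), (24, 3), (24, 18), (26, 18), (27, 2),
  (27, 17), (27, 19), (28, 2), (28, 17), (28, 19), (29, 17), (29, 19), (30, 16), (30, 19), (31, 3), (31, 6), (32,
  17), (33, 1), (33, 16), (33, 18), (33, 19), (35, 1), (35, 16), (36, 16), (36, 19), (37, 0), (37, 18), (37, 19),
  (38, 5), (38, 19), (39, 18), (40, 19), (41, 18), (42, 19), (43, 3), (43, 18), (44, 19), (45, 3), (45, 18), (46,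
  18), (47, 2), (47, 17), (47, 19), (48, 2), (48, 17), (48, 19), (49, 17), (49, 19), (50, 1), (50, 16), (50, 19),
  (51, 3), (51, 6), (53, 16), (53, 19), (54, 3), (54, 18), (55, 16), (55, 19), (57, 0), (57, 17), (57, 19), (58, 3),
  (58, 6), (58, 18), (61, 16), (62, 16), (63, 0), (63, 18), (63, 19), (64, 19), (65, 18), (66, 16), (67, 0), (68, 0),
  (68, 19), (69, 18), (70, 18), (70, 19), (71, 5), (71, 17), (71, 19), (72, 18), (73, 19), (74, 3), (74, 18), (75,
  2), (75, 5), (75, 19), (76, 18), (77, 2), (77, 19), (78, 3), (78, 18), (80, 2), (80, 19), (81, 3), (81, 18), (82,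
  18), (83, 2), (83, 17), (83, 19), (84, 19), (85, 19), (86, 5), (86, 16), (86, 19), (87, 3), (87, 6), (88, 17), (89,
  1), (89, 16), (89, 19), (90, 3), (90, 18), (91, 1), (91, 16), (91, 19), (93, 19), (94, 19), (95, 3), (95, 6), (95,
  18), (98, 0), (98, 17), (98, 19), (99, 3), (99, 18), (101, 17), (102, 0), (102, 17), (102, 19), (104, 19), (105,
  4), (105, 19), (106, 3), (106, 6), (106, 18), (107, 18), (109, 2), (109, 5), (109, 9), (109, 19), (112, 19), (113,
  19), (114, 18), (115, 3), (120, 18), (122, 19), (123, 18), (124, 19), (125, 19), (126, 3), (126, 18), (127, 2),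
  (127, 5), (127, 17), (127, 19), (134, 2), (134, 17), (134, 19), (138, 2), (138, 17), (138, 19), (141, 18), (142,
  17), (143, 17), (143, 19), (144, 17), (144, 19), (145, 1), (145, 5), (145, 16), (145, 19), (146, 3), (146, 6),
  (147, 3), (149, 16), (150, 0), (150, 17), (150, 19), (155, 19), (156, 19), (157, 3), (157, 18), (159, 17), (160,
  19), (161, 19), (162, 18), (163, 3), (163, 18), (164, 3), (164, 18), (165, 18), (166, 18), (167, 2), (167, 5),
  (167, 9), (167, 17), (167, 19), (168, 19), (169, 19), (170, 3), (175, 19)]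

/-- a tree of words -/
def pv12 : List (ℕ × ℕ) :=
  [(0, 2), (0, 3), (0, 5), (0, 6), (0, 7), (0, 8), (0, 9), (0, 10), (0, 11), (0, 12), (0, 13), (0, 14), (0, 15), (1,
  3), (1, 6), (1, 8), (1, 9), (1, 10), (1, 11), (1, 12), (1, 13), (1, 14), (1, 15), (2, 2), (2, 5), (2, 6), (2, 7),
  (2, 8), (2, 9), (2, 10), (2, 11), (2, 12), (2, 13), (2, 14), (2, 15), (3, 3), (3, 6), (3, 8), (3, 9), (3, 10), (3,
  11), (3, 12), (3, 13), (3, 14), (3, 15), (4, 1), (4, 4), (4, 5), (4, 7), (4, 9), (4, 11), (4, 12), (4, 13), (4,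
  14), (4, 15), (4, 19), (5, 3), (5, 6), (5, 8), (5, 9), (5, 10), (5, 11), (5, 12), (5, 13), (5, 14), (5, 15), (6,
  0), (6, 2), (6, 7), (6, 9), (6, 11), (6, 12), (6, 13), (6, 14), (6, 15), (6, 19), (7, 1), (7, 4), (7, 10), (7, 11),
  (7, 12), (7, 13), (7, 14), (7, 15), (7, 18), (8, 2), (8, 5), (8, 11), (8, 12), (8, 13), (8, 14), (8, 15), (8, 19),
  (9, 0), (9, 4), (9, 13), (9, 15), (10, 1), (10, 13), (10, 15), (11, 0), (11, 14), (11, 15), (12, 15), (14, 5), (14,
  6), (14, 7), (14, 8), (14, 9), (14, 10), (14, 11), (14, 12), (14, 13), (14, 14), (14, 15), (15, 1), (15, 4), (15,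
  5), (15, 7), (15, 8), (15, 10), (15, 13), (15, 14), (15, 15), (16, 0), (16, 7), (16, 9), (16, 12), (16, 13), (16,
  15), (17, 1), (17, 4), (17, 10), (17, 11), (17, 12), (17, 13), (17, 14), (17, 15), (18, 5), (18, 11), (18, 13),
  (18, 15), (19, 0), (19, 4), (19, 13), (19, 14), (19, 15), (20, 1), (20, 13), (20, 14), (20, 15), (21, 0), (21, 14),
  (21, 15), (21, 17), (22, 15), (24, 8), (24, 10), (24, 11), (24, 12), (24, 13), (24, 14), (24, 15), (25, 0), (25,
  6), (25, 8), (25, 9), (25, 10), (25, 11), (25, 12), (25, 13), (25, 14), (25, 15), (26, 5), (26, 7), (26, 11), (26,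
  12), (26, 13), (26, 14), (26, 15), (27, 6), (27, 8), (27, 9), (27, 10), (27, 11), (27, 12), (27, 13), (27, 14),
  (27, 15), (28, 2), (28, 7), (28, 9), (28, 11), (28, 12), (28, 13), (28, 14), (28, 15), (29, 1), (29, 4), (29, 10),
  (29, 11), (29, 12), (29, 13), (29, 14), (29, 15), (30, 2), (30, 5), (30, 11), (30, 12), (30, 13), (30, 14), (30,
  15), (31, 0), (31, 4), (31, 13), (31, 15), (32, 1), (32, 13), (32, 15), (33, 0), (33, 14), (33, 15), (34, 15), (36,
  2), (36, 6), (36, 7), (36, 9), (36, 10), (36, 11), (36, 12), (36, 14), (36, 15), (37, 4), (37, 7), (37, 9), (37,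
  13), (37, 14), (37, 15), (38, 0), (38, 2), (38, 7), (38, 9), (38, 10), (38, 12), (38, 15), (39, 4), (39, 10), (39,
  11), (39, 12), (39, 13), (39, 14), (39, 15), (40, 2), (40, 11), (40, 13), (40, 15), (41, 0), (41, 4), (41, 12),
  (41, 13), (41, 15), (42, 13), (42, 15), (43, 14), (43, 15), (44, 15), (45, 16), (46, 2), (46, 5), (46, 7), (46, 9),
  (46, 12), (46, 13), (46, 14), (46, 15), (47, 2), (47, 5), (47, 7), (47, 9), (47, 11), (47, 12), (47, 13), (47, 14),
  (47, 15), (47, 19), (48, 0), (48, 3), (48, 9), (48, 10), (48, 12), (48, 13), (48, 14), (48, 15), (49, 3)]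

theorem rk12 : Nat.blt 248 (bigRk 48 [G4, G8] pc12 pv12) = true := by decide +kernel

theorem ent12 (C : Cls) (row : List ℕ) (z : ℕ) : Ent ty C 248 12 row z :=
  ent_big syn C (s := 48) (4, G4) [(8, G8)]
    ((Bool.and_eq_true _ _).mpr ⟨pad4, (Bool.and_eq_true _ _).mpr ⟨pad8, rfl⟩⟩)
    (by decide) (by decide) rk12 row z

/-- a tree of words -/
def pc13 : List (ℕ × ℕ) :=
  [(0, 16), (0, 18), (0, 19), (1, 17), (1, 18), (1, 19), (2, 17), (2, 19), (3, 18), (4, 18), (4, 19), (5, 17), (5,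
  19), (6, 18), (7, 16), (7, 19), (8, 3), (8, 18), (9, 2), (9, 17), (9, 19), (10, 2), (10, 17), (10, 19), (11, 18),
  (12, 1), (12, 16), (12, 19), (13, 3), (13, 18), (14, 2), (14, 17), (14, 19), (15, 19), (16, 3), (16, 18), (17, 18),
  (18, 2), (18, 17), (18, 19), (19, 17), (19, 19), (20, 1), (20, 16), (20, 19), (21, 3), (22, 19), (23, 16), (23,
  19), (24, 3), (24, 18), (25, 2), (25, 17), (25, 19), (26, 19), (27, 19), (28, 3), (28, 18), (29, 18), (30, 2), (30,
  17), (31, 17), (31, 19), (32, 1), (32, 16), (32, 18), (32, 19), (33, 3), (34, 3), (34, 18), (35, 18), (36, 2), (36,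
  17), (36, 19), (37, 2), (37, 17), (37, 19), (38, 17), (39, 1), (39, 16), (39, 18), (39, 19), (41, 16), (41, 19),
  (43, 16), (43, 19), (44, 0), (44, 17), (44, 19), (45, 3), (45, 18), (47, 3), (47, 18), (48, 19), (49, 3), (49, 18),
  (50, 18), (51, 2), (51, 9), (51, 17), (51, 19), (52, 17), (52, 19), (53, 16), (53, 19), (54, 3), (55, 18), (56,
  18), (57, 18), (58, 2), (58, 17), (58, 19), (59, 17), (59, 19), (60, 17), (61, 16), (61, 18), (62, 16), (62, 19),
  (64, 16), (65, 18), (65, 19), (66, 5), (66, 19), (67, 3), (67, 18), (69, 18), (70, 2), (70, 17), (70, 19), (71, 2),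
  (71, 17), (71, 19), (72, 17), (73, 16), (73, 19), (74, 3), (74, 6), (75, 17), (76, 1), (76, 16), (76, 18), (76,
  19), (78, 16), (79, 16), (80, 0), (80, 17), (80, 18), (80, 19), (81, 5), (81, 19), (82, 18), (83, 0), (83, 19),
  (84, 18), (85, 0), (85, 19), (86, 18), (88, 4), (88, 18), (88, 19), (89, 3), (89, 18), (90, 18), (91, 17), (93, 2),
  (93, 17), (93, 19), (94, 18), (95, 18), (96, 2), (96, 17), (96, 19), (97, 2), (97, 17), (97, 19), (98, 9), (98,
  17), (99, 17), (99, 19), (100, 1), (100, 16), (100, 18), (100, 19), (101, 6), (102, 16), (102, 19), (104, 19),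
  (105, 3), (105, 18), (107, 2), (107, 17), (107, 19), (108, 2), (108, 3), (108, 17), (108, 19), (109, 17), (109,
  19), (110, 17), (110, 19), (111, 1), (111, 5), (111, 16), (111, 19), (112, 3), (112, 6), (113, 16), (115, 16),
  (116, 1), (116, 18), (117, 5), (117, 19), (118, 19), (119, 18), (121, 19), (122, 3), (122, 18), (123, 19), (124,
  18), (126, 19), (127, 2), (127, 17), (127, 19), (128, 17), (129, 1), (129, 16), (129, 18), (129, 19), (130, 3),
  (132, 16), (133, 3), (134, 16), (135, 0), (135, 17), (135, 19), (140, 16), (141, 0), (145, 0), (146, 18), (147,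
  18), (148, 5), (148, 17), (148, 19), (149, 18), (154, 18), (155, 19), (160, 19)]

/-- a tree of words -/
def pv13 : List (ℕ × ℕ) :=
  [(0, 0), (0, 2), (0, 3), (0, 4), (0, 5), (0, 6), (0, 7), (0, 8), (0, 9), (0, 10), (0, 11), (0, 12), (0, 13), (0,
  14), (0, 15), (1, 2), (1, 3), (1, 5), (1, 6), (1, 7), (1, 8), (1, 9), (1, 10), (1, 11), (1, 12), (1, 13), (1, 14),
  (1, 15), (2, 3), (2, 4), (2, 6), (2, 7), (2, 8), (2, 9), (2, 10), (2, 11), (2, 12), (2, 13), (2, 14), (2, 15), (3,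
  2), (3, 4), (3, 5), (3, 6), (3, 7), (3, 8), (3, 9), (3, 10), (3, 11), (3, 12), (3, 13), (3, 14), (3, 15), (4, 2),
  (4, 5), (4, 6), (4, 7), (4, 8), (4, 9), (4, 10), (4, 11), (4, 12), (4, 13), (4, 14), (4, 15), (5, 0), (5, 3), (5,
  6), (5, 8), (5, 9), (5, 10), (5, 11), (5, 12), (5, 13), (5, 14), (5, 15), (6, 1), (6, 4), (6, 5), (6, 7), (6, 9),
  (6, 10), (6, 11), (6, 12), (6, 13), (6, 14), (6, 15), (6, 19), (7, 3), (7, 6), (7, 8), (7, 9), (7, 10), (7, 11),
  (7, 12), (7, 13), (7, 14), (7, 15), (8, 0), (8, 2), (8, 7), (8, 9), (8, 10), (8, 11), (8, 12), (8, 13), (8, 14),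
  (8, 15), (8, 19), (9, 1), (9, 4), (9, 10), (9, 11), (9, 12), (9, 13), (9, 14), (9, 15), (9, 18), (10, 2), (10, 5),
  (10, 11), (10, 12), (10, 13), (10, 14), (10, 15), (10, 19), (11, 0), (11, 4), (11, 12), (11, 13), (11, 14), (11,
  15), (12, 1), (12, 13), (12, 15), (13, 0), (13, 14), (13, 15), (14, 15), (15, 16), (16, 3), (16, 6), (16, 8), (16,
  9), (16, 10), (16, 11), (16, 12), (16, 13), (16, 14), (16, 15), (17, 2), (17, 5), (17, 6), (17, 7), (17, 8), (17,
  9), (17, 10), (17, 11), (17, 12), (17, 13), (17, 14), (17, 15), (18, 3), (18, 6), (18, 8), (18, 9), (18, 10), (18,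
  11), (18, 12), (18, 13), (18, 14), (18, 15), (19, 1), (19, 4), (19, 5), (19, 7), (19, 8), (19, 9), (19, 11), (19,
  12), (19, 13), (19, 14), (19, 15), (19, 19), (20, 3), (20, 6), (20, 8), (20, 9), (20, 10), (20, 11), (20, 12), (20,
  13), (20, 14), (20, 15), (21, 2), (21, 7), (21, 9), (21, 11), (21, 12), (21, 13), (21, 14), (21, 15), (21, 19),
  (22, 1), (22, 4), (22, 10), (22, 11), (22, 12), (22, 13), (22, 14), (22, 15), (22, 18), (23, 2), (23, 5), (23, 11),
  (23, 12), (23, 13), (23, 14), (23, 15), (23, 19), (24, 4), (24, 13), (24, 15), (25, 1), (25, 13), (25, 14), (25,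
  15), (26, 14), (26, 15), (26, 17), (27, 15), (29, 4), (29, 5), (29, 6), (29, 7), (29, 8), (29, 9), (29, 10), (29,
  11), (29, 12), (29, 13), (29, 14), (29, 15), (30, 6), (30, 8), (30, 9), (30, 10), (30, 11), (30, 12), (30, 13),
  (30, 14), (30, 15), (31, 1), (31, 4), (31, 5), (31, 7), (31, 8), (31, 10), (31, 12), (31, 13), (31, 14), (31, 15),
  (32, 3), (32, 6), (32, 8), (32, 9), (32, 10), (32, 11), (32, 12), (32, 13), (32, 14), (32, 15), (33, 0), (33, 7),
  (33, 9), (33, 10), (33, 12), (33, 13), (33, 14), (33, 15), (34, 1), (34, 4), (34, 10), (34, 11), (34, 12), (34,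
  13), (34, 14), (34, 15), (35, 5), (35, 11), (35, 13), (35, 15), (35, 19), (36, 0), (36, 4), (36, 12), (36, 13),
  (36, 14), (36, 15)]

theorem rk13 : Nat.blt 248 (bigRk 48 [G1, G4, G8] pc13 pv13) = true := by decide +kernel

theorem ent13 (C : Cls) (row : List ℕ) (z : ℕ) : Ent ty C 248 13 row z :=
  ent_big syn C (s := 48) (1, G1) [(4, G4), (8, G8)]
    ((Bool.and_eq_true _ _).mpr ⟨pad1, (Bool.and_eq_true _ _).mpr ⟨pad4, (Bool.and_eq_true _ _).mpr ⟨pad8, rfl⟩⟩⟩)
    (by decide) (by decide) rk13 row z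

/-- a tree of words -/
def pc14 : List (ℕ × ℕ) :=
  [(0, 17), (0, 18), (0, 19), (1, 16), (1, 18), (1, 19), (2, 17), (2, 19), (3, 18), (4, 18), (4, 19), (5, 2), (5,
  17), (5, 19), (6, 18), (7, 1), (7, 16), (7, 19), (8, 3), (8, 18), (9, 2), (9, 17), (9, 19), (10, 2), (10, 17), (10,
  19), (11, 18), (12, 19), (13, 16), (13, 19), (14, 3), (14, 18), (15, 2), (15, 17), (15, 19), (16, 16), (16, 19),
  (17, 0), (17, 19), (18, 3), (18, 18), (19, 18), (20, 2), (20, 17), (20, 19), (21, 17), (21, 19), (22, 1), (22, 16),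
  (22, 18), (22, 19), (23, 3), (24, 17), (24, 19), (25, 1), (25, 16), (25, 19), (26, 3), (26, 18), (27, 2), (27, 17),
  (27, 19), (28, 3), (28, 18), (29, 0), (29, 19), (30, 3), (30, 18), (31, 18), (32, 2), (32, 9), (32, 17), (32, 19),
  (33, 17), (33, 19), (34, 16), (34, 19), (35, 3), (36, 19), (37, 3), (37, 18), (38, 19), (39, 3), (39, 18), (40,
  18), (41, 2), (41, 17), (41, 19), (42, 2), (42, 17), (42, 19), (43, 17), (44, 1), (44, 16), (44, 18), (44, 19),
  (46, 1), (46, 16), (46, 19), (48, 16), (48, 19), (49, 0), (49, 18), (49, 19), (50, 5), (50, 19), (51, 3), (51, 18),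
  (53, 19), (54, 3), (54, 18), (55, 19), (56, 19), (57, 18), (58, 18), (59, 2), (59, 9), (59, 17), (59, 19), (60,
  17), (60, 19), (61, 1), (61, 16), (61, 19), (62, 3), (64, 2), (64, 17), (64, 19), (65, 19), (66, 18), (67, 18),
  (68, 2), (68, 9), (68, 17), (68, 19), (69, 2), (69, 17), (69, 19), (70, 9), (70, 17), (70, 19), (71, 17), (71, 19),
  (72, 1), (72, 16), (72, 18), (72, 19), (74, 16), (74, 19), (75, 3), (76, 0), (76, 17), (76, 19), (77, 3), (77, 18),
  (79, 3), (79, 18), (81, 2), (81, 17), (81, 19), (82, 18), (83, 18), (84, 2), (84, 17), (84, 19), (85, 2), (85, 17),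
  (85, 19), (86, 17), (86, 19), (87, 1), (87, 5), (87, 16), (87, 19), (88, 3), (88, 6), (89, 17), (90, 1), (90, 16),
  (90, 18), (92, 1), (92, 16), (93, 16), (94, 0), (94, 18), (94, 19), (97, 16), (98, 0), (98, 19), (100, 0), (100,
  19), (102, 18), (103, 5), (103, 17), (103, 19), (104, 3), (104, 18), (109, 18), (111, 2), (111, 17), (111, 19),
  (112, 18), (113, 18), (114, 2), (114, 3), (114, 9), (114, 17), (114, 19), (115, 2), (115, 17), (116, 9), (116, 17),
  (117, 17), (117, 19), (118, 1), (118, 16), (118, 18), (118, 19), (120, 16), (120, 19), (122, 19), (123, 19), (124,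
  3), (124, 18), (127, 16), (129, 18), (130, 2), (130, 3), (130, 17), (130, 19), (134, 16), (137, 16), (140, 16),
  (142, 16), (144, 16), (145, 0), (145, 17), (145, 18), (145, 19), (148, 19), (151, 19), (152, 4), (152, 19), (153,
  3), (153, 18), (157, 17), (157, 19), (159, 16)]

/-- a tree of words -/
def pv14 : List (ℕ × ℕ) :=
  [(0, 1), (0, 2), (0, 3), (0, 4), (0, 5), (0, 6), (0, 7), (0, 8), (0, 9), (0, 10), (0, 11), (0, 12), (0, 13), (0,
  14), (0, 15), (1, 2), (1, 3), (1, 5), (1, 6), (1, 7), (1, 8), (1, 9), (1, 10), (1, 11), (1, 12), (1, 13), (1, 14),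
  (1, 15), (2, 1), (2, 3), (2, 4), (2, 5), (2, 6), (2, 7), (2, 8), (2, 9), (2, 10), (2, 11), (2, 12), (2, 13), (2,
  14), (2, 15), (3, 2), (3, 4), (3, 5), (3, 6), (3, 7), (3, 8), (3, 9), (3, 10), (3, 11), (3, 12), (3, 13), (3, 14),
  (3, 15), (4, 2), (4, 5), (4, 6), (4, 7), (4, 8), (4, 9), (4, 10), (4, 11), (4, 12), (4, 13), (4, 14), (4, 15), (5,
  0), (5, 3), (5, 6), (5, 8), (5, 9), (5, 10), (5, 11), (5, 12), (5, 13), (5, 14), (5, 15), (6, 1), (6, 4), (6, 5),
  (6, 7), (6, 8), (6, 9), (6, 10), (6, 11), (6, 12), (6, 13), (6, 14), (6, 15), (6, 19), (7, 3), (7, 6), (7, 8), (7,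
  9), (7, 10), (7, 11), (7, 12), (7, 13), (7, 14), (7, 15), (8, 0), (8, 2), (8, 7), (8, 9), (8, 11), (8, 12), (8,
  13), (8, 14), (8, 15), (8, 19), (9, 1), (9, 4), (9, 10), (9, 11), (9, 12), (9, 13), (9, 14), (9, 15), (9, 18), (10,
  2), (10, 5), (10, 11), (10, 12), (10, 13), (10, 14), (10, 15), (10, 19), (11, 0), (11, 4), (11, 13), (11, 14), (11,
  15), (12, 1), (12, 13), (12, 14), (12, 15), (13, 0), (13, 14), (13, 15), (13, 17), (14, 15), (16, 3), (16, 4), (16,
  6), (16, 8), (16, 9), (16, 10), (16, 11), (16, 12), (16, 13), (16, 14), (16, 15), (17, 2), (17, 5), (17, 6), (17,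
  7), (17, 8), (17, 9), (17, 10), (17, 11), (17, 12), (17, 13), (17, 14), (17, 15), (18, 0), (18, 3), (18, 6), (18,
  7), (18, 8), (18, 9), (18, 10), (18, 11), (18, 12), (18, 13), (18, 14), (18, 15), (19, 4), (19, 5), (19, 7), (19,
  9), (19, 11), (19, 12), (19, 13), (19, 14), (19, 15), (19, 19), (20, 3), (20, 6), (20, 8), (20, 9), (20, 10), (20,
  11), (20, 12), (20, 13), (20, 14), (20, 15), (21, 0), (21, 2), (21, 7), (21, 9), (21, 10), (21, 11), (21, 12), (21,
  13), (21, 14), (21, 15), (21, 19), (22, 4), (22, 10), (22, 11), (22, 12), (22, 13), (22, 14), (22, 15), (22, 18),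
  (23, 2), (23, 5), (23, 11), (23, 12), (23, 13), (23, 14), (23, 15), (23, 19), (24, 0), (24, 4), (24, 12), (24, 13),
  (24, 15), (25, 13), (25, 15), (26, 0), (26, 14), (26, 15), (27, 15), (28, 16), (29, 3), (29, 6), (29, 8), (29, 9),
  (29, 10), (29, 11), (29, 12), (29, 13), (29, 14), (29, 15), (30, 4), (30, 5), (30, 6), (30, 7), (30, 8), (30, 9),
  (30, 10), (30, 11), (30, 12), (30, 13), (30, 14), (30, 15), (31, 6), (31, 8), (31, 9), (31, 10), (31, 11), (31,
  12), (31, 13), (31, 14), (31, 15), (32, 3), (32, 6), (32, 8), (32, 9), (32, 10), (32, 11), (32, 12), (32, 13), (32,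
  14), (32, 15), (33, 1), (33, 4), (33, 5), (33, 7), (33, 8), (33, 10), (33, 11), (33, 12), (33, 13), (33, 14), (33,
  15), (34, 3), (34, 6), (34, 8), (34, 9), (34, 10), (34, 11), (34, 12), (34, 13), (34, 14), (34, 15), (35, 0)]

theorem rk14 : Nat.blt 248 (bigRk 48 [G2, G4, G8] pc14 pv14) = true := by decide +kernel

theorem ent14 (C : Cls) (row : List ℕ) (z : ℕ) : Ent ty C 248 14 row z :=
  ent_big syn C (s := 48) (2, G2) [(4, G4), (8, G8)]
    ((Bool.and_eq_true _ _).mpr ⟨pad2, (Bool.and_eq_true _ _).mpr ⟨pad4, (Bool.and_eq_true _ _).mpr ⟨pad8, rfl⟩⟩⟩)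
    (by decide) (by decide) rk14 row z

/-- a tree of words -/
def pc15 : List (ℕ × ℕ) :=
  [(0, 16), (0, 17), (0, 18), (0, 19), (1, 17), (1, 18), (1, 19), (2, 16), (2, 18), (2, 19), (3, 17), (3, 19), (4,
  18), (5, 1), (5, 16), (5, 18), (5, 19), (6, 17), (6, 19), (7, 18), (8, 0), (8, 18), (8, 19), (9, 2), (9, 17), (9,
  19), (10, 18), (11, 1), (11, 16), (11, 19), (12, 3), (12, 18), (13, 2), (13, 17), (13, 19), (14, 18), (14, 19),
  (15, 18), (16, 2), (16, 17), (16, 19), (17, 18), (18, 1), (18, 16), (18, 18), (18, 19), (19, 3), (19, 18), (20, 2),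
  (20, 17), (20, 19), (21, 18), (21, 19), (22, 2), (22, 17), (22, 19), (23, 18), (24, 19), (25, 16), (25, 19), (26,
  3), (26, 18), (27, 17), (27, 19), (28, 16), (28, 19), (29, 0), (29, 17), (29, 19), (30, 18), (31, 18), (32, 2),
  (32, 17), (33, 17), (33, 19), (34, 1), (34, 16), (34, 18), (34, 19), (35, 3), (36, 2), (36, 17), (36, 19), (37,
  18), (38, 17), (38, 19), (39, 19), (40, 5), (40, 16), (40, 19), (41, 3), (41, 18), (42, 17), (42, 19), (43, 16),
  (43, 19), (44, 19), (45, 19), (46, 3), (46, 18), (47, 18), (48, 2), (48, 17), (49, 17), (49, 19), (50, 1), (50,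
  16), (50, 18), (50, 19), (51, 3), (52, 19), (53, 18), (54, 19), (55, 19), (56, 3), (56, 18), (57, 17), (57, 19),
  (58, 18), (59, 19), (60, 18), (61, 18), (62, 2), (62, 9), (62, 17), (62, 19), (63, 16), (63, 19), (64, 2), (65,
  19), (67, 19), (68, 19), (69, 18), (70, 3), (70, 17), (70, 19), (71, 17), (71, 19), (72, 17), (73, 16), (73, 18),
  (74, 16), (74, 19), (76, 16), (77, 0), (77, 17), (77, 18), (77, 19), (79, 18), (81, 19), (82, 19), (83, 18), (84,
  17), (84, 19), (85, 19), (86, 18), (87, 18), (88, 19), (89, 19), (90, 18), (91, 18), (92, 2), (92, 9), (92, 17),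
  (92, 19), (93, 1), (93, 2), (93, 16), (93, 19), (94, 2), (94, 3), (95, 19), (96, 18), (97, 18), (98, 18), (99, 18),
  (100, 2), (100, 17), (100, 19), (101, 17), (101, 19), (102, 17), (103, 16), (103, 18), (104, 16), (104, 19), (106,
  16), (107, 18), (107, 19), (108, 5), (108, 19), (109, 18), (111, 18), (112, 17), (113, 18), (114, 18), (115, 18),
  (116, 2), (116, 9), (116, 17), (116, 19), (117, 18), (117, 19), (118, 2), (118, 3), (119, 17), (120, 18), (121,
  19), (125, 16), (127, 0), (131, 18), (132, 18), (133, 3), (133, 17), (133, 19), (135, 16), (137, 16), (139, 16),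
  (140, 0), (140, 17), (140, 18), (142, 19), (148, 18), (150, 18), (151, 18), (152, 2), (152, 3), (152, 9), (152,
  17), (153, 19), (154, 2), (154, 3), (155, 18), (156, 2), (156, 17), (157, 2), (157, 17), (159, 18), (160, 2), (160,
  17), (160, 19), (161, 17), (162, 17), (163, 17), (164, 1), (164, 8), (164, 13), (164, 16)]

/-- a tree of words -/
def pv15 : List (ℕ × ℕ) :=
  [(0, 0), (0, 1), (0, 2), (0, 3), (0, 4), (0, 5), (0, 6), (0, 7), (0, 8), (0, 9), (0, 10), (0, 11), (0, 12), (0,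
  13), (0, 14), (0, 15), (1, 1), (1, 2), (1, 3), (1, 4), (1, 5), (1, 6), (1, 7), (1, 8), (1, 9), (1, 10), (1, 11),
  (1, 12), (1, 13), (1, 14), (1, 15), (2, 0), (2, 2), (2, 3), (2, 4), (2, 5), (2, 6), (2, 7), (2, 8), (2, 9), (2,
  10), (2, 11), (2, 12), (2, 13), (2, 14), (2, 15), (3, 1), (3, 3), (3, 4), (3, 5), (3, 6), (3, 7), (3, 8), (3, 9),
  (3, 10), (3, 11), (3, 12), (3, 13), (3, 14), (3, 15), (4, 2), (4, 4), (4, 5), (4, 6), (4, 7), (4, 8), (4, 9), (4,
  10), (4, 11), (4, 12), (4, 13), (4, 14), (4, 15), (5, 2), (5, 5), (5, 6), (5, 7), (5, 8), (5, 9), (5, 10), (5, 11),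
  (5, 12), (5, 13), (5, 14), (5, 15), (6, 0), (6, 3), (6, 6), (6, 7), (6, 8), (6, 9), (6, 10), (6, 11), (6, 12), (6,
  13), (6, 14), (6, 15), (7, 1), (7, 4), (7, 5), (7, 7), (7, 8), (7, 9), (7, 10), (7, 11), (7, 12), (7, 13), (7, 14),
  (7, 15), (7, 19), (8, 3), (8, 6), (8, 8), (8, 9), (8, 10), (8, 11), (8, 12), (8, 13), (8, 14), (8, 15), (9, 0), (9,
  2), (9, 7), (9, 9), (9, 10), (9, 11), (9, 12), (9, 13), (9, 14), (9, 15), (9, 19), (10, 1), (10, 4), (10, 10), (10,
  11), (10, 12), (10, 13), (10, 14), (10, 15), (10, 18), (11, 2), (11, 5), (11, 11), (11, 12), (11, 13), (11, 14),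
  (11, 15), (11, 19), (12, 0), (12, 4), (12, 12), (12, 13), (12, 14), (12, 15), (13, 1), (13, 13), (13, 14), (13,
  15), (14, 0), (14, 14), (14, 15), (14, 17), (15, 15), (16, 16), (17, 2), (17, 3), (17, 5), (17, 6), (17, 7), (17,
  8), (17, 9), (17, 10), (17, 11), (17, 12), (17, 13), (17, 14), (17, 15), (18, 1), (18, 3), (18, 4), (18, 5), (18,
  6), (18, 7), (18, 8), (18, 9), (18, 10), (18, 11), (18, 12), (18, 13), (18, 14), (18, 15), (19, 2), (19, 4), (19,
  5), (19, 6), (19, 7), (19, 8), (19, 9), (19, 10), (19, 11), (19, 12), (19, 13), (19, 14), (19, 15), (20, 2), (20,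
  5), (20, 6), (20, 7), (20, 8), (20, 9), (20, 10), (20, 11), (20, 12), (20, 13), (20, 14), (20, 15), (21, 3), (21,
  6), (21, 8), (21, 9), (21, 10), (21, 11), (21, 12), (21, 13), (21, 14), (21, 15), (22, 1), (22, 4), (22, 5), (22,
  7), (22, 8), (22, 9), (22, 10), (22, 11), (22, 12), (22, 13), (22, 14), (22, 15), (22, 19), (23, 3), (23, 6), (23,
  8), (23, 9), (23, 10), (23, 11), (23, 12), (23, 13), (23, 14), (23, 15), (24, 2), (24, 7), (24, 9), (24, 11), (24,
  12), (24, 13), (24, 14), (24, 15), (24, 19), (25, 1), (25, 4), (25, 10), (25, 11), (25, 12), (25, 13), (25, 14),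
  (25, 15), (25, 18), (26, 2), (26, 5), (26, 11), (26, 12), (26, 13), (26, 14), (26, 15), (26, 19), (27, 4), (27,
  13), (27, 14), (27, 15), (28, 1), (28, 13), (28, 14), (28, 15), (29, 14), (29, 15), (29, 17), (30, 15), (32, 2),
  (32, 3), (32, 5), (32, 6), (32, 7), (32, 8), (32, 9), (32, 10), (32, 11), (32, 12), (32, 13)]

theorem rk15 : Nat.blt 248 (bigRk 48 [G1, G2, G4, G8] pc15 pv15) = true := by decide +kernel

theorem ent15 (C : Cls) (row : List ℕ) (z : ℕ) : Ent ty C 248 15 row z :=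
  ent_big syn C (s := 48) (1, G1) [(2, G2), (4, G4), (8, G8)]
    ((Bool.and_eq_true _ _).mpr ⟨pad1, (Bool.and_eq_true _ _).mpr ⟨pad2, (Bool.and_eq_true _ _).mpr ⟨pad4, (Bool.and_eq_true _ _).mpr ⟨pad8, rfl⟩⟩⟩⟩)
    (by decide) (by decide) rk15 row z

end Cfsg.Agent.E82.Mach.C4
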