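import Cfsg.Agent.E82.Mach.Main

/-!
# The pressure machine: the small modules of `Sp₈(2)` (helper38)
-/

set_option autoImplicit false
set_option maxRecDepth 100000

namespace Cfsg.Agent.E82.Mach.C4

/-- the simple module of weight `0`, dimension 1 -/
def G0 : List (List (ℕ × ℕ)) :=
  [[], [], [], [], [], [], [], [], [], [], [], [], [], [], [], [], [], [], [], []]

/-- a tree of words -/
def p0 : List (ℕ × ℕ) :=
  []

/-- a tree of words -/
def q0 : List (ℕ × ℕ) :=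
  []

/-- the simple module of weight `1`, dimension 8 -/
def G1 : List (List (ℕ × ℕ)) :=
  [[(0, 1), (5, 4)], [(1, 2), (6, 5)], [(2, 3), (7, 6)], [(3, 7)], [(0, 2), (6, 4)], [(1, 3), (7, 5)], [(2, 7), (3,
  6)], [(0, 3), (7, 4)], [(1, 7), (3, 5)], [(2, 6)], [(0, 7), (3, 4)], [(1, 6), (2, 5)], [(0, 6), (2, 4)], [(1, 5)],
  [(0, 5), (1, 4)], [(0, 4)], [(1, 0), (4, 5)], [(2, 1), (5, 6)], [(3, 2), (6, 7)], [(7, 3)]]

/-- a tree of words -/
def p1 : List (ℕ × ℕ) :=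
  [(0, 0), (0, 4), (0, 7), (0, 10), (0, 12), (0, 14), (0, 15)]

/-- a tree of words -/
def q1 : List (ℕ × ℕ) :=
  [(0, 16), (1, 17), (2, 18), (3, 19), (4, 18), (5, 17), (6, 16)]

/-- the simple module of weight `2`, dimension 26 -/
def G2 : List (List (ℕ × ℕ)) :=
  [[(7, 2), (8, 3), (9, 4), (10, 5), (13, 6), (14, 6), (21, 6), (21, 13), (21, 14), (22, 17), (23, 18), (24, 19),
  (25, 20)], [(0, 25), (2, 1), (6, 5), (11, 8), (12, 9), (13, 10), (17, 10), (17, 14), (18, 15), (19, 16), (22, 21)],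
  [(3, 2), (5, 4), (8, 7), (10, 9), (13, 12), (14, 12), (15, 12), (15, 13), (15, 14), (18, 17), (20, 19), (23, 22),
  (25, 24)], [(4, 3), (9, 8), (12, 11), (16, 15), (19, 18), (24, 23)], [(0, 20), (7, 1), (11, 3), (12, 4), (14, 5),
  (17, 6), (21, 10), (22, 5), (22, 13), (23, 15), (24, 16)], [(0, 24), (3, 1), (6, 4), (11, 7), (14, 9), (15, 10),
  (17, 12), (18, 9), (18, 13), (20, 16), (23, 21)], [(4, 2), (5, 3), (9, 7), (10, 8), (13, 11), (14, 11), (16, 11),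
  (16, 13), (16, 14), (19, 17), (20, 18), (24, 22), (25, 23)], [(0, 19), (8, 1), (11, 2), (13, 4), (15, 5), (18, 6),
  (21, 9), (22, 12), (23, 4), (23, 14), (25, 16)], [(0, 23), (4, 1), (6, 3), (12, 7), (14, 8), (16, 10), (17, 11),
  (19, 8), (19, 13), (20, 15), (24, 21)], [(5, 2), (10, 7), (15, 11), (16, 12), (20, 17), (25, 22)], [(0, 18), (9,
  1), (12, 2), (13, 3), (16, 5), (19, 6), (21, 8), (22, 11), (24, 3), (24, 14), (25, 15)], [(0, 22), (5, 1), (6, 2),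
  (13, 7), (15, 8), (16, 9), (18, 11), (19, 12), (20, 7), (20, 14), (25, 21)], [(0, 17), (10, 1), (14, 2), (15, 3),
  (16, 4), (20, 6), (21, 7), (23, 11), (24, 12), (25, 2), (25, 13)], [(0, 21), (6, 1), (17, 7), (18, 8), (19, 9),
  (20, 10)], [(0, 1), (0, 13), (0, 14), (13, 1), (14, 1), (17, 2), (18, 3), (19, 4), (20, 5), (22, 7), (23, 8), (24,
  9), (25, 10)], [(0, 6), (21, 1), (22, 2), (23, 3), (24, 4), (25, 5)], [(2, 7), (3, 8), (4, 9), (5, 10), (6, 13),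
  (6, 14), (6, 21), (13, 21), (14, 21), (17, 22), (18, 23), (19, 24), (20, 25)], [(1, 2), (5, 6), (8, 11), (9, 12),
  (10, 14), (10, 17), (13, 17), (15, 18), (16, 19), (21, 22), (25, 0)], [(2, 3), (4, 5), (7, 8), (9, 10), (12, 13),
  (12, 14), (12, 15), (13, 15), (14, 15), (17, 18), (19, 20), (22, 23), (24, 25)], [(3, 4), (8, 9), (11, 12), (15,
  16), (18, 19), (23, 24)]]

/-- a tree of words -/
def p2 : List (ℕ × ℕ) :=
  [(0, 1), (0, 4), (0, 5), (0, 7), (0, 8), (0, 10), (0, 11), (0, 12), (0, 13), (0, 14), (0, 15), (1, 7), (1, 10), (1,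
  12), (1, 14), (1, 15), (2, 11), (3, 10), (3, 12), (3, 14), (3, 15), (4, 8), (5, 7), (5, 12), (5, 14)]

/-- a tree of words -/
def q2 : List (ℕ × ℕ) :=
  [(0, 17), (1, 16), (1, 18), (2, 18), (3, 19), (4, 17), (4, 19), (5, 18), (6, 19), (7, 18), (8, 17), (9, 18), (10,
  17), (11, 16), (12, 2), (12, 17), (12, 19), (13, 1), (13, 16), (16, 16), (16, 19), (20, 19), (21, 18), (22, 18),
  (24, 17)]

/-- the simple module of weight `4`, dimension 48 -/
def G4 : List (List (ℕ × ℕ)) :=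
  [[(15, 5), (16, 6), (17, 7), (18, 8), (19, 9), (20, 10), (22, 11), (24, 12), (26, 13), (28, 14), (35, 11), (35,
  21), (36, 12), (36, 23), (37, 13), (37, 25), (38, 14), (38, 27), (39, 29), (40, 30), (41, 31), (42, 32), (43, 33),
  (44, 34)], [(5, 2), (6, 3), (8, 4), (11, 4), (11, 7), (12, 9), (13, 10), (21, 17), (22, 18), (23, 19), (24, 19),
  (25, 20), (26, 20), (29, 19), (29, 23), (29, 24), (30, 20), (30, 25), (30, 26), (31, 27), (32, 28), (39, 36), (40,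
  37), (42, 38), (45, 38), (45, 41), (46, 43), (47, 44)], [(0, 47), (2, 1), (4, 3), (7, 6), (8, 6), (9, 6), (9, 7),
  (9, 8), (12, 11), (14, 13), (17, 16), (18, 16), (19, 16), (19, 17), (19, 18), (23, 21), (24, 22), (27, 25), (28,
  26), (31, 30), (32, 30), (33, 30), (33, 31), (33, 32), (36, 35), (38, 37), (41, 40), (42, 40), (43, 40), (43, 41),
  (43, 42), (46, 45)], [(3, 2), (6, 5), (10, 9), (13, 12), (16, 15), (20, 19), (25, 23), (26, 24), (30, 29), (34,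
  33), (37, 36), (40, 39), (44, 43), (47, 46)], [(15, 2), (16, 3), (18, 4), (21, 7), (22, 7), (22, 8), (23, 9), (25,
  10), (29, 12), (30, 13), (32, 14), (35, 4), (35, 17), (36, 19), (37, 20), (39, 9), (39, 24), (40, 10), (40, 26),
  (41, 27), (42, 27), (42, 28), (45, 14), (45, 31), (46, 33), (47, 34)], [(0, 44), (5, 1), (7, 3), (9, 4), (11, 6),
  (12, 3), (12, 8), (14, 10), (21, 16), (22, 16), (23, 18), (24, 17), (27, 20), (28, 20), (29, 16), (29, 21), (29,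
  22), (31, 26), (32, 25), (33, 20), (33, 27), (33, 28), (39, 35), (41, 37), (43, 38), (45, 40), (46, 37), (46, 42)],
  [(0, 46), (3, 1), (4, 2), (7, 5), (8, 5), (10, 5), (10, 7), (10, 8), (13, 11), (14, 12), (17, 15), (18, 15), (20,
  15), (20, 17), (20, 18), (25, 21), (26, 22), (27, 23), (28, 24), (31, 29), (32, 29), (34, 29), (34, 31), (34, 32),
  (37, 35), (38, 36), (41, 39), (42, 39), (44, 39), (44, 41), (44, 42), (47, 45)], [(0, 34), (15, 1), (17, 3), (19,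
  4), (21, 6), (23, 8), (24, 7), (24, 8), (27, 10), (29, 11), (31, 13), (33, 14), (35, 16), (36, 3), (36, 18), (38,
  20), (39, 6), (39, 22), (41, 25), (41, 26), (42, 25), (43, 10), (43, 28), (45, 30), (46, 13), (46, 32)], [(0, 43),
  (6, 1), (7, 2), (10, 4), (11, 5), (13, 2), (13, 8), (14, 9), (21, 15), (22, 15), (25, 18), (26, 17), (27, 19), (28,
  19), (30, 15), (30, 21), (30, 22), (31, 24), (32, 23), (34, 19), (34, 27), (34, 28), (40, 35), (41, 36), (44, 38),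
  (45, 39), (47, 36), (47, 42)], [(0, 45), (4, 1), (9, 5), (10, 6), (14, 11), (19, 15), (20, 16), (27, 21), (28, 22),
  (33, 29), (34, 30), (38, 35), (43, 39), (44, 40)], [(0, 33), (16, 1), (17, 2), (20, 4), (21, 5), (25, 8), (26, 7),
  (26, 8), (27, 9), (30, 11), (31, 12), (34, 14), (35, 15), (37, 2), (37, 18), (38, 19), (40, 5), (40, 22), (41, 23),
  (41, 24), (42, 23), (44, 9), (44, 28), (45, 29), (47, 12), (47, 32)], [(0, 35), (0, 41), (8, 1), (9, 2), (10, 3),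
  (12, 5), (13, 6), (14, 1), (14, 7), (23, 15), (24, 15), (25, 16), (26, 16), (27, 17), (28, 18), (31, 21), (32, 22),
  (33, 15), (33, 23), (33, 24), (34, 16), (34, 25), (34, 26), (42, 35), (43, 36), (44, 37), (46, 39), (47, 40)], [(0,
  11), (0, 31), (18, 1), (19, 2), (20, 3), (23, 5), (25, 6), (27, 7), (28, 7), (28, 8), (32, 11), (33, 12), (34, 13),
  (36, 15), (37, 16), (38, 1), (38, 17), (41, 21), (42, 21), (42, 22), (43, 5), (43, 24), (44, 6), (44, 26), (46,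
  29), (47, 30)], [(0, 38), (11, 1), (12, 2), (13, 3), (14, 4), (29, 15), (30, 16), (31, 17), (32, 18), (33, 19),
  (34, 20), (45, 35), (46, 36), (47, 37)], [(0, 4), (0, 27), (22, 1), (24, 2), (26, 3), (28, 4), (29, 5), (30, 6),
  (31, 7), (32, 8), (33, 9), (34, 10), (39, 15), (40, 16), (41, 17), (42, 18), (43, 19), (44, 20), (45, 1), (45, 21),
  (46, 2), (46, 23), (47, 3), (47, 25)], [(0, 14), (35, 1), (36, 2), (37, 3), (38, 4), (39, 5), (40, 6), (41, 7),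
  (42, 8), (43, 9), (44, 10), (45, 11), (46, 12), (47, 13)], [(5, 15), (6, 16), (7, 17), (8, 18), (9, 19), (10, 20),
  (11, 21), (11, 35), (12, 23), (12, 36), (13, 25), (13, 37), (14, 27), (14, 38), (22, 35), (24, 36), (26, 37), (28,
  38), (29, 39), (30, 40), (31, 41), (32, 42), (33, 43), (34, 44)], [(2, 5), (3, 6), (4, 7), (4, 11), (8, 11), (9,
  12), (10, 13), (17, 21), (18, 22), (19, 23), (19, 24), (19, 29), (20, 25), (20, 26), (20, 30), (23, 29), (24, 29),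
  (25, 30), (26, 30), (27, 31), (28, 32), (36, 39), (37, 40), (38, 41), (38, 45), (42, 45), (43, 46), (44, 47)], [(1,
  2), (3, 4), (6, 7), (6, 8), (6, 9), (7, 9), (8, 9), (11, 12), (13, 14), (16, 17), (16, 18), (16, 19), (17, 19),
  (18, 19), (21, 23), (22, 24), (25, 27), (26, 28), (30, 31), (30, 32), (30, 33), (31, 33), (32, 33), (35, 36), (37,
  38), (40, 41), (40, 42), (40, 43), (41, 43), (42, 43), (45, 46), (47, 0)], [(2, 3), (5, 6), (9, 10), (12, 13), (15,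
  16), (19, 20), (23, 25), (24, 26), (29, 30), (33, 34), (36, 37), (39, 40), (43, 44), (46, 47)]]

/-- a tree of words -/
def p4 : List (ℕ × ℕ) :=
  [(0, 2), (0, 5), (0, 6), (0, 7), (0, 8), (0, 9), (0, 10), (0, 11), (0, 12), (0, 13), (0, 14), (0, 15), (1, 8), (1,
  10), (1, 11), (1, 12), (1, 13), (1, 14), (1, 15), (2, 6), (2, 10), (2, 12), (2, 14), (2, 15), (3, 5), (3, 7), (3,
  11), (3, 12), (3, 14), (4, 6), (4, 8), (4, 11), (5, 7), (5, 12), (5, 14), (6, 14), (7, 11), (8, 0), (8, 4), (8,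
  15), (13, 0), (13, 7), (13, 12), (13, 15), (15, 4), (15, 14), (20, 4)]

/-- a tree of words -/
def q4 : List (ℕ × ℕ) :=
  [(0, 18), (1, 17), (1, 19), (2, 16), (2, 19), (3, 18), (4, 19), (5, 18), (6, 17), (7, 18), (8, 2), (8, 17), (8,
  19), (9, 1), (9, 16), (10, 2), (10, 17), (10, 19), (12, 16), (12, 19), (14, 16), (15, 0), (16, 17), (17, 1), (17,
  16), (17, 19), (19, 0), (19, 19), (20, 18), (24, 19), (25, 19), (26, 18), (27, 19), (28, 18), (30, 18), (31, 18),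
  (32, 2), (32, 19), (33, 18), (34, 17), (36, 2), (36, 17), (36, 19), (39, 17), (40, 1), (42, 19), (46, 18)]

/-- the simple module of weight `8`, dimension 16 -/
def G8 : List (List (ℕ × ℕ)) :=
  [[(9, 5), (10, 6), (11, 7), (12, 8)], [(5, 3), (6, 4), (13, 11), (14, 12)], [(3, 2), (7, 6), (11, 10), (15, 14)],
  [(0, 15), (2, 1), (4, 3), (6, 5), (8, 7), (10, 9), (12, 11), (14, 13)], [(9, 3), (10, 4), (13, 7), (14, 8)], [(5,
  2), (7, 4), (13, 10), (15, 12)], [(0, 13), (4, 1), (8, 5), (12, 9)], [(9, 2), (11, 4), (13, 6), (15, 8)], [(0, 11),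
  (6, 1), (8, 3), (14, 9)], [(0, 14), (3, 1), (4, 2), (7, 5), (8, 6), (11, 9), (12, 10), (15, 13)], [(0, 7), (10, 1),
  (12, 3), (14, 5)], [(0, 10), (7, 1), (8, 2), (15, 9)], [(0, 6), (11, 1), (12, 2), (15, 5)], [(0, 12), (5, 1), (6,
  2), (7, 3), (8, 4), (13, 9), (14, 10), (15, 11)], [(0, 4), (13, 1), (14, 2), (15, 3)], [(0, 8), (9, 1), (10, 2),
  (11, 3), (12, 4), (13, 5), (14, 6), (15, 7)], [(5, 9), (6, 10), (7, 11), (8, 12)], [(3, 5), (4, 6), (11, 13), (12,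
  14)], [(2, 3), (6, 7), (10, 11), (14, 15)], [(1, 2), (3, 4), (5, 6), (7, 8), (9, 10), (11, 12), (13, 14), (15, 0)]]

/-- a tree of words -/
def p8 : List (ℕ × ℕ) :=
  [(0, 3), (0, 6), (0, 8), (0, 9), (0, 10), (0, 11), (0, 12), (0, 13), (0, 14), (0, 15), (1, 11), (1, 12), (1, 14),
  (2, 14), (4, 14)]

/-- a tree of words -/
def q8 : List (ℕ × ℕ) :=
  [(0, 19), (1, 18), (2, 17), (2, 19), (3, 16), (3, 19), (5, 19), (6, 18), (7, 18), (8, 19), (9, 17), (9, 19), (11,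
  19), (13, 18), (14, 19)]

/-- the type -/
def ty : Ty :=
  ⟨4, 16, [[([], []), ([1], [1, 4]), ([2], [2]), ([3], [3]), ([1, 4], [4]), ([5], [5, 7]), ([6], [6]), ([5, 7], [7]),
  ([8], [8, 10]), ([9], [9]), ([8, 10], [10]), ([11], [11, 12]), ([11, 12], [12]), ([13], [13, 14, 15]), ([14],
  [14]), ([13, 14, 15], [15])], [([0], [0, 4]), ([], []), ([2], [2, 5]), ([3], [3]), ([0, 4], [4]), ([2, 5], [5]),
  ([6], [6, 8]), ([7], [7]), ([6, 8], [8]), ([9], [9, 11, 13]), ([10], [10]), ([11], [11]), ([12], [12, 14]), ([9,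
  11, 13], [13]), ([12, 14], [14]), ([15], [15])], [([0], [0]), ([1], [1, 5]), ([], []), ([3], [3, 6, 9]), ([4], [4,
  7]), ([1, 5], [5]), ([6], [6]), ([4, 7], [7]), ([8], [8, 11]), ([3, 6, 9], [9]), ([10], [10, 12]), ([8, 11], [11]),
  ([10, 12], [12]), ([13], [13]), ([14], [14]), ([15], [15])], [([0], [0]), ([1], [1]), ([2], [2, 6, 9]), ([], []),
  ([4], [4]), ([5], [5, 8, 13]), ([2, 6, 9], [6]), ([7], [7, 10, 15]), ([5, 8, 13], [8]), ([9], [9]), ([7, 10, 15],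
  [10]), ([11], [11]), ([12], [12]), ([13], [13]), ([14], [14]), ([15], [15])]]⟩

/-- the positive root elements -/
def pos : List (List ℕ) :=
  [[16], [17], [18], [19], [16, 17, 16, 17], [17, 18, 17, 18], [3, 19, 18, 19, 3], [0, 16, 17, 18, 17, 16, 0, 18],
  [3, 17, 19, 18, 17, 18, 19, 3], [2, 18, 19, 18, 2], [0, 3, 16, 17, 19, 18, 17, 16, 0, 18, 19, 3], [2, 9, 18, 19,
  18, 17, 18, 19, 18, 2, 9], [2, 9, 16, 18, 19, 18, 17, 16, 17, 18, 19, 18, 2, 9], [1, 2, 17, 18, 19, 18, 2, 17, 1],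
  [17, 1, 17, 2, 9, 16, 18, 19, 18, 17, 16, 17, 18, 19, 18, 2, 9, 17, 1, 17], [0, 1, 2, 16, 17, 18, 19, 18, 2, 17, 1,
  16, 0]]

end Cfsg.Agent.E82.Mach.C4
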