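import Cfsg.Agent.E82.Mach.D4Big

/-!
# The pressure machine: the large modules of `Ω₈⁺(2)` are simple (helper38)
-/

set_option autoImplicit false
set_option maxRecDepth 100000

namespace Cfsg.Agent.E82.Mach.D4

theorem pm3 : pmOk ty 3 160 G3 = true := by decide +kernel

theorem sp3 : spinOk 160 G3 p3 = true := by decide +kernel

theorem ds3 : spinOk 160 (trG G3) q3 = true := by decide +kernel

theorem pm6 : pmOk ty 6 160 G6 = true := by decide +kernel

theorem sp6 : spinOk 160 G6 p6 = true := by decide +kernel

theorem ds6 : spinOk 160 (trG G6) q6 = true := by decide +kernel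

theorem pm10 : pmOk ty 10 160 G10 = true := by decide +kernel

theorem sp10 : spinOk 160 G10 p10 = true := by decide +kernel

theorem ds10 : spinOk 160 (trG G10) q10 = true := by decide +kernel

theorem pm13 : pmOk ty 13 246 G13 = true := by decide +kernel

theorem sp13 : spinOk 246 G13 p13 = true := by decide +kernel

theorem ds13 : spinOk 246 (trG G13) q13 = true := by decide +kernel

end Cfsg.Agent.E82.Mach.D4
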