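import Cfsg.Agent.E82.Mach.D4Ex

/-!
# The pressure machine: the simple modules of `Ω₈⁺(2)` of dimension more than 248 (helper38)
-/

set_option autoImplicit false
set_option maxRecDepth 100000

namespace Cfsg.Agent.E82.Mach.D4

theorem pad1 : pmOk ty 1 26 G1 = true := by decide +kernel

theorem pad2 : pmOk ty 2 26 G2 = true := by decide +kernel

theorem pad4 : pmOk ty 4 26 G4 = true := by decide +kernel

theorem pad8 : pmOk ty 8 26 G8 = true := by decide +kernel

/-- a tree of words -/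
def pc7 : List (ℕ × ℕ) :=
  [(0, 12), (0, 13), (0, 14), (1, 13), (1, 14), (2, 12), (2, 14), (2, 15), (3, 13), (4, 1), (4, 12), (4, 14), (4,
  15), (5, 13), (6, 0), (6, 14), (6, 15), (7, 2), (7, 13), (7, 15), (9, 1), (9, 12), (9, 15), (10, 14), (10, 15),
  (11, 14), (11, 15), (12, 2), (12, 13), (12, 15), (13, 3), (14, 1), (14, 12), (14, 14), (14, 15), (15, 14), (15,
  15), (16, 2), (16, 13), (16, 15), (17, 13), (18, 15), (19, 12), (19, 15), (20, 13), (21, 12), (21, 15), (22, 0),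
  (22, 13), (22, 15), (23, 3), (24, 2), (24, 13), (24, 15), (26, 2), (26, 13), (26, 15), (27, 3), (27, 13), (28, 15),
  (29, 5), (29, 12), (29, 15), (30, 3), (30, 13), (32, 12), (32, 15), (33, 14), (33, 15), (34, 15), (35, 3), (36, 2),
  (36, 13), (36, 15), (37, 13), (38, 13), (38, 15), (39, 1), (39, 12), (39, 14), (39, 15), (40, 13), (41, 1), (41,
  14), (42, 13), (43, 0), (43, 13), (43, 15), (44, 3), (44, 13), (45, 1), (45, 12), (46, 0), (46, 15), (48, 15), (49,
  4), (49, 14), (49, 15), (50, 3), (50, 13), (52, 15), (53, 12), (53, 15), (54, 13), (55, 13), (55, 15), (56, 5),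
  (56, 15), (57, 3), (57, 13), (59, 14), (60, 3), (60, 13), (61, 12), (61, 15), (62, 0), (62, 15), (63, 3), (63, 13),
  (64, 13), (65, 1), (65, 5), (65, 12), (65, 15), (66, 15), (67, 3), (68, 15), (69, 3), (69, 13), (70, 3), (70, 13),
  (72, 15), (73, 1), (73, 15), (74, 13), (75, 14), (76, 1), (76, 15), (77, 13), (78, 15), (79, 15), (80, 15), (81,
  3), (81, 13), (82, 1), (82, 12), (82, 14), (82, 15), (83, 14), (84, 2), (84, 13), (85, 12), (86, 15), (87, 15),
  (88, 3), (88, 13), (90, 12), (91, 12), (92, 0), (92, 13), (93, 15), (94, 13), (95, 3), (95, 13), (96, 15), (97,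
  15), (98, 3), (98, 13), (99, 13), (100, 1), (100, 4), (100, 14), (100, 15), (102, 15), (103, 3), (103, 13), (104,
  1), (104, 12), (104, 14), (104, 15), (105, 15), (106, 13), (107, 15), (108, 3), (108, 13), (109, 13), (110, 1),
  (110, 5), (110, 12), (110, 14), (110, 15), (111, 2), (111, 13), (112, 13), (113, 1), (113, 12), (114, 15), (115,
  3), (115, 13), (116, 15), (117, 3), (117, 13), (118, 13), (119, 12), (120, 12), (121, 5), (121, 12), (122, 12),
  (123, 0), (123, 13), (123, 15), (124, 6), (125, 3), (125, 13), (127, 13), (128, 13), (129, 4), (129, 6), (129, 14),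
  (130, 13), (131, 12), (134, 3), (134, 13), (135, 1), (135, 12), (135, 14), (135, 15), (136, 13), (137, 15), (138,
  3), (138, 13), (139, 12), (139, 14), (139, 15), (140, 3), (140, 13), (141, 3), (141, 13), (142, 13), (144, 6),
  (144, 12), (144, 14), (145, 12), (145, 14), (146, 0), (146, 4), (146, 14), (146, 15)]

/-- a tree of words -/
def pv7 : List (ℕ × ℕ) :=
  [(0, 0), (0, 1), (0, 2), (0, 4), (0, 5), (0, 6), (0, 7), (0, 8), (0, 9), (0, 10), (0, 11), (1, 1), (1, 2), (1, 4),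
  (1, 5), (1, 6), (1, 7), (1, 8), (1, 9), (1, 10), (1, 11), (2, 0), (2, 2), (2, 4), (2, 5), (2, 7), (2, 8), (2, 9),
  (2, 10), (2, 11), (3, 1), (3, 4), (3, 5), (3, 6), (3, 7), (3, 8), (3, 9), (3, 10), (3, 11), (4, 2), (4, 3), (4, 5),
  (4, 6), (4, 7), (4, 9), (4, 10), (4, 11), (5, 0), (5, 3), (5, 6), (5, 7), (5, 8), (5, 10), (5, 11), (6, 0), (6, 2),
  (6, 7), (6, 8), (6, 9), (6, 10), (6, 11), (7, 3), (7, 6), (7, 8), (7, 9), (7, 11), (8, 2), (8, 5), (8, 9), (8, 10),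
  (8, 11), (9, 0), (9, 4), (9, 10), (9, 11), (10, 1), (10, 11), (12, 2), (12, 3), (12, 5), (12, 7), (12, 8), (12, 9),
  (12, 10), (12, 11), (13, 1), (13, 4), (13, 5), (13, 6), (13, 7), (13, 8), (13, 9), (13, 10), (13, 11), (14, 2),
  (14, 5), (14, 7), (14, 9), (14, 10), (14, 11), (15, 3), (15, 6), (15, 8), (15, 10), (15, 11), (16, 2), (16, 7),
  (16, 9), (16, 10), (16, 11), (17, 3), (17, 6), (17, 8), (17, 9), (17, 11), (18, 2), (18, 5), (18, 9), (18, 10),
  (18, 11), (19, 4), (19, 11), (20, 1), (20, 11), (22, 2), (22, 5), (22, 6), (22, 7), (22, 9), (22, 10), (22, 11),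
  (23, 4), (23, 6), (23, 7), (23, 8), (23, 10), (23, 11), (24, 2), (24, 5), (24, 7), (24, 9), (24, 10), (24, 11),
  (25, 0), (25, 3), (25, 7), (25, 8), (25, 9), (25, 10), (25, 11), (26, 3), (26, 6), (26, 8), (26, 9), (26, 10), (27,
  2), (27, 5), (27, 9), (27, 10), (27, 11), (28, 0), (28, 4), (28, 10), (28, 11), (31, 0), (31, 4), (31, 7), (31, 8),
  (31, 10), (31, 11), (32, 3), (32, 5), (32, 6), (32, 9), (32, 10), (32, 11), (33, 0), (33, 7), (33, 8), (33, 10),
  (33, 11), (34, 0), (34, 7), (34, 8), (34, 10), (34, 11), (35, 3), (35, 6), (35, 8), (35, 9), (35, 11), (36, 5),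
  (36, 9), (36, 11), (37, 0), (37, 4), (37, 10), (37, 11), (38, 1), (38, 11), (40, 1), (40, 3), (40, 5), (40, 6),
  (40, 8), (40, 9), (40, 10), (40, 11), (41, 5), (41, 7), (41, 9), (41, 10), (41, 11), (42, 0), (42, 3), (42, 6),
  (42, 7), (42, 8), (42, 9), (42, 10), (42, 11), (42, 13), (43, 2), (43, 7), (43, 9), (43, 10), (43, 11), (44, 3),
  (44, 6), (44, 9), (44, 10), (44, 11), (44, 12), (45, 0), (45, 10), (46, 1), (46, 11), (46, 12), (47, 13), (48, 1),
  (48, 3), (48, 6), (48, 8), (48, 9), (48, 10), (48, 11), (49, 4), (49, 7), (49, 8), (49, 10), (49, 11), (50, 0),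
  (50, 7), (50, 8), (50, 10), (50, 11), (51, 3), (51, 6), (51, 8), (51, 10), (51, 11), (52, 2), (52, 10), (53, 1),
  (53, 11), (53, 14), (54, 13), (55, 2), (55, 5), (55, 7), (55, 9), (55, 10), (55, 11), (56, 4), (56, 7), (56, 8),
  (56, 10), (56, 11), (57, 8), (57, 9), (58, 2), (58, 5), (58, 9), (58, 10), (58, 11), (59, 0), (59, 4)]

theorem rk7 : Nat.blt 248 (bigRk 26 [G1, G2, G4] pc7 pv7) = true := by decide +kernel

theorem ent7 (C : Cls) (row : List ℕ) (z : ℕ) : Ent ty C 248 7 row z :=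
  ent_big syn C (s := 26) (1, G1) [(2, G2), (4, G4)]
    ((Bool.and_eq_true _ _).mpr ⟨pad1, (Bool.and_eq_true _ _).mpr ⟨pad2, (Bool.and_eq_true _ _).mpr ⟨pad4, rfl⟩⟩⟩)
    (by decide) (by decide) rk7 row z

/-- a tree of words -/
def pc11 : List (ℕ × ℕ) :=
  [(0, 12), (0, 13), (0, 15), (1, 13), (1, 15), (2, 12), (2, 14), (2, 15), (3, 13), (4, 1), (4, 12), (4, 14), (4,
  15), (5, 13), (6, 0), (6, 14), (6, 15), (7, 15), (8, 3), (8, 13), (9, 1), (9, 12), (9, 14), (10, 14), (10, 15),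
  (11, 14), (11, 15), (12, 2), (12, 15), (13, 3), (13, 13), (14, 1), (14, 12), (14, 14), (14, 15), (15, 14), (15,
  15), (16, 13), (16, 15), (17, 3), (17, 13), (18, 3), (18, 13), (20, 12), (20, 14), (21, 12), (21, 14), (22, 0),
  (22, 13), (22, 14), (23, 2), (24, 15), (25, 3), (25, 13), (26, 2), (26, 13), (26, 15), (27, 3), (27, 13), (28, 15),
  (29, 3), (29, 13), (31, 6), (31, 12), (31, 14), (32, 12), (32, 14), (33, 14), (33, 15), (34, 2), (34, 15), (36,
  13), (36, 15), (37, 3), (37, 13), (38, 1), (38, 15), (39, 3), (39, 13), (40, 13), (41, 1), (41, 12), (41, 14), (41,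
  15), (42, 13), (43, 1), (43, 12), (43, 14), (44, 0), (44, 13), (44, 14), (45, 2), (46, 0), (46, 14), (48, 14), (49,
  4), (49, 14), (49, 15), (50, 2), (50, 13), (52, 3), (52, 13), (54, 12), (54, 14), (55, 15), (56, 15), (57, 3), (57,
  13), (58, 13), (59, 6), (59, 14), (60, 3), (60, 13), (61, 13), (62, 1), (62, 6), (62, 12), (62, 14), (63, 12), (63,
  14), (64, 0), (64, 14), (65, 2), (65, 13), (66, 14), (67, 2), (68, 2), (68, 13), (68, 15), (70, 15), (71, 13), (72,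
  15), (73, 3), (73, 13), (75, 1), (75, 14), (76, 15), (77, 3), (77, 13), (78, 13), (79, 1), (79, 12), (79, 14), (79,
  15), (80, 1), (80, 14), (81, 14), (82, 14), (83, 2), (83, 13), (83, 15), (85, 12), (86, 12), (87, 0), (87, 13),
  (87, 14), (89, 14), (90, 14), (91, 2), (91, 13), (93, 14), (94, 13), (95, 2), (95, 13), (96, 14), (97, 2), (97,
  13), (97, 15), (99, 13), (100, 1), (100, 4), (100, 14), (100, 15), (102, 1), (102, 12), (102, 14), (102, 15), (103,
  14), (104, 2), (104, 13), (105, 13), (106, 3), (106, 13), (107, 13), (108, 1), (108, 6), (108, 12), (108, 14),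
  (108, 15), (109, 14), (110, 14), (111, 2), (111, 13), (112, 13), (113, 12), (113, 14), (114, 1), (114, 12), (115,
  6), (115, 12), (116, 12), (116, 14), (117, 0), (117, 13), (117, 14), (118, 5), (119, 14), (120, 2), (121, 14),
  (122, 2), (122, 13), (124, 12), (125, 2), (125, 13), (127, 13), (127, 15), (128, 4), (128, 5), (128, 15), (129,
  13), (130, 13), (131, 12), (132, 13), (134, 1), (134, 12), (134, 14), (134, 15), (136, 2), (136, 13), (137, 13),
  (138, 13), (139, 1), (139, 6), (139, 12), (139, 14), (140, 12), (140, 14), (141, 12), (141, 14), (142, 0), (142,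
  4), (142, 14), (142, 15), (143, 15), (144, 6), (145, 14), (146, 2), (146, 13)]

/-- a tree of words -/
def pv11 : List (ℕ × ℕ) :=
  [(0, 0), (0, 1), (0, 3), (0, 4), (0, 5), (0, 6), (0, 7), (0, 8), (0, 9), (0, 10), (0, 11), (1, 1), (1, 3), (1, 4),
  (1, 5), (1, 6), (1, 7), (1, 8), (1, 9), (1, 10), (1, 11), (2, 0), (2, 3), (2, 4), (2, 6), (2, 7), (2, 8), (2, 9),
  (2, 10), (2, 11), (3, 1), (3, 4), (3, 5), (3, 6), (3, 7), (3, 8), (3, 9), (3, 10), (3, 11), (4, 2), (4, 3), (4, 5),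
  (4, 6), (4, 8), (4, 9), (4, 10), (4, 11), (5, 0), (5, 3), (5, 6), (5, 7), (5, 8), (5, 9), (5, 10), (5, 11), (6, 0),
  (6, 2), (6, 7), (6, 8), (6, 10), (6, 11), (7, 3), (7, 6), (7, 8), (7, 9), (7, 10), (7, 11), (8, 2), (8, 5), (8, 9),
  (8, 11), (9, 0), (9, 4), (9, 10), (9, 11), (10, 1), (10, 11), (12, 2), (12, 3), (12, 6), (12, 7), (12, 8), (12, 9),
  (12, 10), (12, 11), (13, 1), (13, 4), (13, 5), (13, 6), (13, 7), (13, 8), (13, 9), (13, 10), (13, 11), (14, 3),
  (14, 6), (14, 8), (14, 9), (14, 10), (14, 11), (15, 3), (15, 6), (15, 8), (15, 9), (15, 10), (15, 11), (16, 2),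
  (16, 7), (16, 10), (16, 11), (17, 3), (17, 6), (17, 8), (17, 9), (17, 10), (17, 11), (18, 2), (18, 5), (18, 9),
  (18, 11), (19, 4), (19, 11), (20, 1), (20, 11), (22, 3), (22, 5), (22, 6), (22, 8), (22, 9), (22, 10), (22, 11),
  (23, 4), (23, 5), (23, 7), (23, 8), (23, 10), (23, 11), (24, 3), (24, 6), (24, 8), (24, 9), (24, 10), (24, 11),
  (25, 0), (25, 2), (25, 7), (25, 8), (25, 9), (25, 10), (25, 11), (26, 3), (26, 6), (26, 8), (26, 9), (26, 10), (26,
  11), (27, 2), (27, 5), (27, 9), (27, 10), (28, 0), (28, 4), (28, 10), (28, 11), (31, 0), (31, 4), (31, 7), (31, 8),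
  (31, 10), (31, 11), (32, 2), (32, 5), (32, 6), (32, 9), (32, 10), (32, 11), (33, 0), (33, 7), (33, 8), (33, 10),
  (33, 11), (34, 0), (34, 7), (34, 8), (34, 10), (34, 11), (35, 6), (35, 8), (35, 9), (35, 11), (36, 2), (36, 5),
  (36, 9), (36, 11), (37, 0), (37, 4), (37, 10), (37, 11), (38, 1), (38, 11), (40, 3), (40, 6), (40, 8), (40, 9),
  (40, 10), (40, 11), (41, 1), (41, 5), (41, 6), (41, 7), (41, 9), (41, 10), (41, 11), (42, 3), (42, 6), (42, 8),
  (42, 9), (42, 10), (42, 11), (43, 0), (43, 2), (43, 7), (43, 8), (43, 9), (43, 10), (43, 11), (43, 13), (44, 2),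
  (44, 5), (44, 9), (44, 10), (44, 11), (44, 12), (45, 0), (45, 10), (46, 1), (46, 11), (46, 12), (47, 13), (48, 3),
  (48, 6), (48, 8), (48, 9), (48, 10), (48, 11), (49, 4), (49, 7), (49, 8), (49, 10), (49, 11), (50, 0), (50, 7),
  (50, 8), (50, 10), (50, 11), (51, 3), (51, 6), (51, 8), (51, 9), (51, 10), (51, 11), (52, 9), (53, 0), (53, 4),
  (53, 10), (53, 11), (54, 1), (56, 1), (56, 2), (56, 5), (56, 7), (56, 9), (56, 10), (56, 11), (57, 4), (57, 7),
  (57, 8), (57, 10), (57, 11), (58, 3), (58, 8), (58, 10), (59, 2), (59, 5), (59, 10), (59, 11), (60, 1), (60, 11),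
  (60, 15), (61, 13), (62, 1), (62, 4), (62, 5), (62, 6), (62, 8), (62, 9)]

theorem rk11 : Nat.blt 248 (bigRk 26 [G1, G2, G8] pc11 pv11) = true := by decide +kernel

theorem ent11 (C : Cls) (row : List ℕ) (z : ℕ) : Ent ty C 248 11 row z :=
  ent_big syn C (s := 26) (1, G1) [(2, G2), (8, G8)]
    ((Bool.and_eq_true _ _).mpr ⟨pad1, (Bool.and_eq_true _ _).mpr ⟨pad2, (Bool.and_eq_true _ _).mpr ⟨pad8, rfl⟩⟩⟩)
    (by decide) (by decide) rk11 row z

/-- a tree of words -/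
def pc14 : List (ℕ × ℕ) :=
  [(0, 13), (0, 14), (0, 15), (1, 12), (1, 14), (1, 15), (2, 13), (2, 15), (3, 13), (4, 14), (4, 15), (5, 2), (5,
  13), (5, 15), (6, 3), (6, 13), (7, 1), (7, 12), (7, 15), (8, 13), (9, 1), (9, 12), (9, 14), (10, 2), (10, 13), (10,
  15), (11, 3), (11, 13), (12, 15), (13, 12), (13, 15), (14, 3), (14, 13), (16, 12), (16, 14), (17, 12), (17, 15),
  (18, 0), (18, 15), (19, 3), (19, 13), (20, 1), (20, 12), (20, 14), (20, 15), (21, 12), (21, 14), (22, 0), (22, 14),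
  (23, 2), (23, 13), (24, 13), (24, 15), (25, 1), (25, 12), (25, 15), (26, 3), (26, 13), (27, 13), (28, 1), (28, 12),
  (28, 14), (29, 3), (29, 13), (30, 0), (30, 15), (31, 3), (31, 13), (32, 13), (33, 1), (33, 12), (33, 14), (33, 15),
  (34, 0), (34, 14), (35, 2), (35, 13), (36, 15), (37, 3), (37, 13), (38, 15), (39, 3), (39, 13), (41, 6), (41, 12),
  (41, 14), (42, 12), (42, 14), (43, 0), (43, 14), (43, 15), (44, 15), (46, 14), (47, 2), (48, 14), (49, 2), (49,
  13), (51, 5), (51, 12), (51, 15), (52, 15), (53, 3), (53, 13), (54, 15), (55, 15), (56, 3), (56, 13), (57, 13),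
  (58, 1), (58, 12), (58, 14), (58, 15), (59, 14), (60, 14), (61, 14), (62, 2), (62, 13), (63, 13), (64, 1), (64,
  12), (64, 14), (65, 15), (66, 3), (66, 13), (67, 13), (68, 12), (69, 1), (69, 12), (70, 12), (71, 0), (71, 13),
  (71, 14), (71, 15), (74, 14), (75, 2), (75, 13), (77, 12), (78, 3), (78, 13), (80, 12), (81, 3), (81, 13), (82,
  13), (83, 1), (83, 6), (83, 12), (83, 14), (84, 12), (84, 14), (85, 0), (85, 13), (85, 14), (86, 2), (87, 0), (87,
  14), (89, 14), (89, 15), (90, 13), (90, 15), (91, 13), (93, 2), (93, 13), (95, 2), (95, 13), (96, 13), (97, 1),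
  (97, 5), (97, 12), (97, 15), (98, 12), (99, 0), (99, 13), (99, 15), (101, 3), (101, 13), (102, 13), (103, 1), (103,
  12), (103, 14), (103, 15), (104, 13), (105, 13), (106, 13), (107, 1), (107, 6), (107, 12), (107, 14), (108, 1),
  (108, 12), (108, 14), (109, 12), (109, 14), (110, 14), (110, 15), (111, 2), (111, 5), (111, 15), (112, 6), (113,
  2), (113, 13), (115, 13), (117, 5), (117, 12), (117, 15), (118, 12), (119, 12), (120, 0), (120, 13), (120, 14),
  (122, 13), (123, 13), (124, 1), (124, 12), (124, 14), (124, 15), (125, 12), (126, 0), (126, 13), (127, 12), (128,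
  0), (128, 13), (129, 0), (130, 14), (130, 15), (131, 4), (131, 14), (131, 15), (132, 13), (133, 13), (134, 13),
  (135, 13), (136, 1), (136, 12), (136, 14), (136, 15), (137, 0), (137, 13), (139, 1), (139, 12), (139, 14), (139,
  15), (140, 0), (140, 13), (141, 13), (142, 12), (142, 14), (143, 1), (143, 14)]

/-- a tree of words -/
def pv14 : List (ℕ × ℕ) :=
  [(0, 1), (0, 2), (0, 3), (0, 4), (0, 5), (0, 6), (0, 7), (0, 8), (0, 9), (0, 10), (0, 11), (1, 2), (1, 3), (1, 5),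
  (1, 6), (1, 7), (1, 8), (1, 9), (1, 10), (1, 11), (2, 1), (2, 3), (2, 4), (2, 5), (2, 6), (2, 7), (2, 8), (2, 9),
  (2, 10), (2, 11), (3, 1), (3, 4), (3, 5), (3, 6), (3, 7), (3, 8), (3, 9), (3, 10), (3, 11), (4, 2), (4, 3), (4, 5),
  (4, 6), (4, 7), (4, 8), (4, 9), (4, 10), (4, 11), (5, 0), (5, 3), (5, 6), (5, 8), (5, 9), (5, 10), (5, 11), (6, 0),
  (6, 2), (6, 7), (6, 9), (6, 10), (6, 11), (7, 3), (7, 6), (7, 8), (7, 9), (7, 10), (7, 11), (8, 2), (8, 5), (8, 9),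
  (8, 10), (8, 11), (9, 0), (9, 4), (9, 11), (10, 1), (10, 11), (12, 3), (12, 4), (12, 6), (12, 8), (12, 9), (12,
  10), (12, 11), (13, 4), (13, 5), (13, 7), (13, 9), (13, 10), (13, 11), (14, 0), (14, 3), (14, 6), (14, 7), (14, 8),
  (14, 9), (14, 10), (14, 11), (15, 0), (15, 2), (15, 7), (15, 8), (15, 9), (15, 10), (15, 11), (16, 3), (16, 6),
  (16, 8), (16, 9), (16, 10), (16, 11), (17, 2), (17, 5), (17, 9), (17, 10), (17, 11), (18, 0), (18, 4), (18, 10),
  (21, 3), (21, 6), (21, 8), (21, 9), (21, 10), (21, 11), (22, 1), (22, 4), (22, 5), (22, 6), (22, 7), (22, 8), (22,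
  9), (22, 10), (22, 11), (23, 3), (23, 6), (23, 8), (23, 9), (23, 10), (23, 11), (24, 3), (24, 6), (24, 8), (24, 9),
  (24, 10), (24, 11), (25, 0), (25, 7), (25, 10), (25, 11), (26, 3), (26, 6), (26, 8), (26, 9), (26, 10), (26, 11),
  (27, 5), (27, 9), (27, 11), (28, 0), (28, 4), (28, 11), (29, 1), (29, 11), (31, 2), (31, 5), (31, 7), (31, 9), (31,
  10), (31, 11), (32, 2), (32, 5), (32, 7), (32, 9), (32, 10), (32, 11), (33, 0), (33, 6), (33, 8), (33, 10), (33,
  11), (34, 2), (34, 7), (34, 9), (34, 10), (34, 11), (35, 6), (35, 8), (35, 9), (35, 11), (36, 2), (36, 5), (36, 9),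
  (36, 10), (36, 11), (37, 0), (37, 4), (37, 11), (38, 1), (38, 11), (40, 3), (40, 6), (40, 8), (40, 9), (40, 10),
  (40, 11), (41, 5), (41, 7), (41, 9), (41, 10), (41, 11), (42, 3), (42, 6), (42, 8), (42, 9), (42, 10), (42, 11),
  (43, 2), (43, 7), (43, 9), (43, 10), (43, 11), (44, 3), (44, 6), (44, 8), (44, 9), (44, 10), (44, 11), (45, 2),
  (45, 5), (45, 9), (45, 10), (45, 11), (47, 1), (49, 3), (49, 6), (49, 8), (49, 9), (49, 10), (49, 11), (50, 1),
  (50, 4), (50, 6), (50, 7), (50, 8), (50, 10), (50, 11), (51, 0), (51, 2), (51, 7), (51, 8), (51, 9), (51, 10), (51,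
  11), (51, 13), (52, 2), (52, 9), (52, 10), (53, 0), (53, 4), (53, 10), (53, 11), (53, 14), (54, 1), (54, 11), (54,
  14), (55, 13), (56, 2), (56, 5), (56, 7), (56, 9), (56, 10), (56, 11), (57, 1), (57, 4)]

theorem rk14 : Nat.blt 248 (bigRk 26 [G2, G4, G8] pc14 pv14) = true := by decide +kernel

theorem ent14 (C : Cls) (row : List ℕ) (z : ℕ) : Ent ty C 248 14 row z :=
  ent_big syn C (s := 26) (2, G2) [(4, G4), (8, G8)]
    ((Bool.and_eq_true _ _).mpr ⟨pad2, (Bool.and_eq_true _ _).mpr ⟨pad4, (Bool.and_eq_true _ _).mpr ⟨pad8, rfl⟩⟩⟩)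
    (by decide) (by decide) rk14 row z

/-- a tree of words -/
def pc15 : List (ℕ × ℕ) :=
  [(0, 12), (0, 13), (0, 14), (0, 15), (1, 13), (1, 14), (1, 15), (2, 12), (2, 14), (2, 15), (3, 13), (3, 15), (4,
  13), (5, 1), (5, 12), (5, 14), (5, 15), (6, 13), (6, 15), (7, 13), (8, 0), (8, 14), (8, 15), (9, 2), (9, 13), (9,
  15), (10, 3), (10, 13), (11, 1), (11, 12), (11, 15), (12, 13), (13, 1), (13, 12), (13, 14), (14, 14), (14, 15),
  (15, 14), (15, 15), (16, 2), (16, 13), (16, 15), (17, 3), (17, 13), (18, 1), (18, 12), (18, 14), (18, 15), (19,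
  13), (20, 1), (20, 12), (20, 14), (20, 15), (21, 14), (21, 15), (22, 2), (22, 13), (22, 15), (23, 3), (23, 13),
  (24, 15), (25, 12), (25, 15), (26, 3), (26, 13), (28, 12), (28, 14), (29, 12), (29, 15), (30, 0), (30, 13), (30,
  15), (31, 3), (31, 13), (32, 1), (32, 12), (32, 14), (32, 15), (33, 12), (33, 14), (34, 0), (34, 13), (34, 14),
  (35, 2), (35, 13), (36, 2), (36, 13), (36, 15), (37, 3), (37, 13), (38, 2), (38, 13), (38, 15), (39, 3), (39, 13),
  (40, 15), (41, 5), (41, 12), (41, 15), (42, 3), (42, 13), (44, 6), (44, 12), (44, 14), (45, 12), (45, 15), (46,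
  14), (46, 15), (47, 15), (48, 3), (48, 13), (49, 12), (49, 14), (49, 15), (50, 12), (50, 14), (51, 14), (51, 15),
  (52, 2), (52, 13), (52, 15), (54, 13), (54, 15), (55, 13), (56, 13), (56, 15), (57, 1), (57, 12), (57, 14), (57,
  15), (58, 3), (58, 13), (59, 13), (60, 1), (60, 12), (60, 14), (60, 15), (61, 3), (61, 13), (62, 0), (62, 15), (63,
  3), (63, 13), (64, 13), (65, 1), (65, 12), (65, 14), (65, 15), (66, 0), (66, 14), (67, 2), (67, 13), (68, 0), (68,
  15), (69, 3), (69, 13), (70, 15), (71, 4), (71, 14), (71, 15), (72, 3), (72, 13), (74, 6), (74, 12), (74, 14), (75,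
  12), (76, 0), (76, 13), (76, 14), (76, 15), (79, 0), (79, 14), (80, 2), (81, 14), (82, 4), (82, 14), (82, 15), (83,
  2), (83, 13), (85, 5), (85, 12), (85, 15), (86, 15), (87, 12), (87, 15), (88, 3), (88, 13), (90, 12), (90, 14),
  (91, 13), (91, 15), (92, 15), (93, 3), (93, 13), (94, 13), (95, 14), (96, 13), (97, 15), (98, 15), (99, 13), (100,
  13), (101, 1), (101, 5), (101, 6), (101, 12), (101, 14), (101, 15), (102, 14), (103, 14), (104, 2), (104, 13),
  (105, 15), (106, 13), (107, 15), (108, 13), (109, 13), (111, 6), (111, 12), (111, 14), (112, 1), (112, 14), (112,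
  15), (113, 15), (115, 14), (117, 13), (119, 15), (120, 5), (120, 15), (121, 13), (122, 15), (123, 13), (124, 14),
  (125, 15), (126, 13), (127, 15), (128, 15), (129, 15), (130, 13), (131, 13), (132, 1), (132, 12), (132, 14), (132,
  15), (134, 14), (135, 14), (136, 2), (136, 13), (136, 15)]

/-- a tree of words -/
def pv15 : List (ℕ × ℕ) :=
  [(0, 0), (0, 1), (0, 2), (0, 3), (0, 4), (0, 5), (0, 6), (0, 7), (0, 8), (0, 9), (0, 10), (0, 11), (1, 1), (1, 2),
  (1, 3), (1, 4), (1, 5), (1, 6), (1, 7), (1, 8), (1, 9), (1, 10), (1, 11), (2, 0), (2, 2), (2, 3), (2, 4), (2, 5),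
  (2, 6), (2, 7), (2, 8), (2, 9), (2, 10), (2, 11), (3, 1), (3, 3), (3, 4), (3, 5), (3, 6), (3, 7), (3, 8), (3, 9),
  (3, 10), (3, 11), (4, 1), (4, 4), (4, 5), (4, 6), (4, 7), (4, 8), (4, 9), (4, 10), (4, 11), (5, 2), (5, 3), (5, 5),
  (5, 6), (5, 7), (5, 8), (5, 9), (5, 10), (5, 11), (6, 0), (6, 3), (6, 6), (6, 7), (6, 8), (6, 9), (6, 10), (6, 11),
  (7, 0), (7, 2), (7, 7), (7, 8), (7, 9), (7, 10), (7, 11), (8, 3), (8, 6), (8, 8), (8, 9), (8, 10), (8, 11), (9, 2),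
  (9, 5), (9, 9), (9, 10), (9, 11), (10, 0), (10, 4), (10, 10), (10, 11), (11, 1), (11, 11), (13, 2), (13, 3), (13,
  5), (13, 6), (13, 7), (13, 8), (13, 9), (13, 10), (13, 11), (14, 1), (14, 3), (14, 4), (14, 5), (14, 6), (14, 7),
  (14, 8), (14, 9), (14, 10), (14, 11), (15, 1), (15, 4), (15, 5), (15, 6), (15, 7), (15, 8), (15, 9), (15, 10), (15,
  11), (16, 2), (16, 3), (16, 5), (16, 6), (16, 7), (16, 8), (16, 9), (16, 10), (16, 11), (17, 3), (17, 6), (17, 8),
  (17, 9), (17, 10), (17, 11), (18, 2), (18, 7), (18, 9), (18, 10), (18, 11), (19, 3), (19, 6), (19, 8), (19, 9),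
  (19, 10), (19, 11), (20, 2), (20, 5), (20, 9), (20, 10), (20, 11), (21, 4), (21, 11), (22, 1), (22, 11), (24, 2),
  (24, 3), (24, 5), (24, 6), (24, 7), (24, 8), (24, 9), (24, 10), (24, 11), (25, 3), (25, 4), (25, 6), (25, 7), (25,
  8), (25, 9), (25, 10), (25, 11), (26, 4), (26, 5), (26, 7), (26, 8), (26, 9), (26, 10), (26, 11), (27, 2), (27, 3),
  (27, 5), (27, 6), (27, 7), (27, 8), (27, 9), (27, 10), (27, 11), (28, 0), (28, 3), (28, 6), (28, 7), (28, 8), (28,
  9), (28, 10), (28, 11), (29, 0), (29, 2), (29, 7), (29, 8), (29, 9), (29, 10), (29, 11), (30, 3), (30, 6), (30, 8),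
  (30, 9), (30, 10), (30, 11), (31, 2), (31, 5), (31, 9), (31, 10), (31, 11), (32, 0), (32, 4), (32, 10), (32, 11),
  (35, 0), (35, 3), (35, 4), (35, 6), (35, 7), (35, 8), (35, 9), (35, 10), (35, 11), (36, 1), (36, 4), (36, 5), (36,
  6), (36, 7), (36, 8), (36, 9), (36, 10), (36, 11), (37, 3), (37, 5), (37, 6), (37, 8), (37, 9), (37, 10), (37, 11),
  (38, 0), (38, 3), (38, 6), (38, 7), (38, 8), (38, 9), (38, 10), (38, 11), (39, 0), (39, 7), (39, 8), (39, 10), (39,
  11), (40, 3), (40, 6), (40, 8), (40, 9), (40, 10), (40, 11), (41, 5), (41, 9), (41, 11), (42, 0), (42, 4), (42,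
  10), (42, 11), (43, 1), (43, 11), (45, 0), (45, 2), (45, 4), (45, 5), (45, 7), (45, 8), (45, 9), (45, 10), (45,
  11), (46, 2), (46, 5), (46, 6), (46, 7), (46, 9), (46, 10), (46, 11), (47, 0), (47, 6), (47, 7), (47, 8), (47, 10),
  (47, 11), (48, 0), (48, 2), (48, 7), (48, 8)]

theorem rk15 : Nat.blt 248 (bigRk 26 [G1, G2, G4, G8] pc15 pv15) = true := by decide +kernel

theorem ent15 (C : Cls) (row : List ℕ) (z : ℕ) : Ent ty C 248 15 row z :=
  ent_big syn C (s := 26) (1, G1) [(2, G2), (4, G4), (8, G8)]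
    ((Bool.and_eq_true _ _).mpr ⟨pad1, (Bool.and_eq_true _ _).mpr ⟨pad2, (Bool.and_eq_true _ _).mpr ⟨pad4, (Bool.and_eq_true _ _).mpr ⟨pad8, rfl⟩⟩⟩⟩)
    (by decide) (by decide) rk15 row z

end Cfsg.Agent.E82.Mach.D4
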