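import Cfsg.Agent.E82.Mach.Main

/-!
# The pressure machine: the small modules of `Ω₈⁺(2)` (helper38)
-/

set_option autoImplicit false
set_option maxRecDepth 100000

namespace Cfsg.Agent.E82.Mach.D4

/-- the simple module of weight `0`, dimension 1 -/
def G0 : List (List (ℕ × ℕ)) :=
  [[], [], [], [], [], [], [], [], [], [], [], [], [], [], [], []]

/-- a tree of words -/
def p0 : List (ℕ × ℕ) :=
  []

/-- a tree of words -/
def q0 : List (ℕ × ℕ) :=
  []

/-- the simple module of weight `1`, dimension 8 -/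
def G1 : List (List (ℕ × ℕ)) :=
  [[(0, 1), (5, 4)], [(1, 2), (6, 5)], [(2, 3), (7, 6)], [(2, 7), (3, 6)], [(0, 2), (6, 4)], [(1, 3), (7, 5)], [(1,
  7), (3, 5)], [(0, 3), (7, 4)], [(0, 7), (3, 4)], [(1, 6), (2, 5)], [(0, 6), (2, 4)], [(0, 5), (1, 4)], [(1, 0), (4,
  5)], [(2, 1), (5, 6)], [(3, 2), (6, 7)], [(6, 3), (7, 2)]]

/-- a tree of words -/
def p1 : List (ℕ × ℕ) :=
  [(0, 0), (0, 4), (0, 7), (0, 8), (0, 10), (0, 11), (1, 11)]

/-- a tree of words -/
def q1 : List (ℕ × ℕ) :=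
  [(0, 12), (1, 13), (2, 14), (2, 15), (3, 15), (5, 13), (6, 12)]

/-- the simple module of weight `2`, dimension 26 -/
def G2 : List (List (ℕ × ℕ)) :=
  [[(7, 2), (8, 3), (9, 4), (10, 5), (13, 6), (14, 6), (21, 6), (21, 13), (21, 14), (22, 17), (23, 18), (24, 19),
  (25, 20)], [(0, 25), (2, 1), (6, 5), (11, 8), (12, 9), (13, 10), (17, 10), (17, 14), (18, 15), (19, 16), (22, 21)],
  [(3, 2), (5, 4), (8, 7), (10, 9), (13, 12), (14, 12), (15, 12), (15, 13), (15, 14), (18, 17), (20, 19), (23, 22),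
  (25, 24)], [(4, 2), (5, 3), (9, 7), (10, 8), (13, 11), (14, 11), (16, 11), (16, 13), (16, 14), (19, 17), (20, 18),
  (24, 22), (25, 23)], [(0, 20), (7, 1), (11, 3), (12, 4), (14, 5), (17, 6), (21, 10), (22, 5), (22, 13), (23, 15),
  (24, 16)], [(0, 24), (3, 1), (6, 4), (11, 7), (14, 9), (15, 10), (17, 12), (18, 9), (18, 13), (20, 16), (23, 21)],
  [(0, 23), (4, 1), (6, 3), (12, 7), (14, 8), (16, 10), (17, 11), (19, 8), (19, 13), (20, 15), (24, 21)], [(0, 19),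
  (8, 1), (11, 2), (13, 4), (15, 5), (18, 6), (21, 9), (22, 12), (23, 4), (23, 14), (25, 16)], [(0, 18), (9, 1), (12,
  2), (13, 3), (16, 5), (19, 6), (21, 8), (22, 11), (24, 3), (24, 14), (25, 15)], [(0, 22), (5, 1), (6, 2), (13, 7),
  (15, 8), (16, 9), (18, 11), (19, 12), (20, 7), (20, 14), (25, 21)], [(0, 17), (10, 1), (14, 2), (15, 3), (16, 4),
  (20, 6), (21, 7), (23, 11), (24, 12), (25, 2), (25, 13)], [(0, 1), (0, 13), (0, 14), (13, 1), (14, 1), (17, 2),
  (18, 3), (19, 4), (20, 5), (22, 7), (23, 8), (24, 9), (25, 10)], [(2, 7), (3, 8), (4, 9), (5, 10), (6, 13), (6,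
  14), (6, 21), (13, 21), (14, 21), (17, 22), (18, 23), (19, 24), (20, 25)], [(1, 2), (5, 6), (8, 11), (9, 12), (10,
  14), (10, 17), (13, 17), (15, 18), (16, 19), (21, 22), (25, 0)], [(2, 3), (4, 5), (7, 8), (9, 10), (12, 13), (12,
  14), (12, 15), (13, 15), (14, 15), (17, 18), (19, 20), (22, 23), (24, 25)], [(2, 4), (3, 5), (7, 9), (8, 10), (11,
  13), (11, 14), (11, 16), (13, 16), (14, 16), (17, 19), (18, 20), (22, 24), (23, 25)]]

/-- a tree of words -/
def p2 : List (ℕ × ℕ) :=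
  [(0, 1), (0, 4), (0, 5), (0, 6), (0, 7), (0, 8), (0, 9), (0, 10), (0, 11), (1, 7), (1, 8), (1, 9), (1, 10), (1,
  11), (2, 9), (2, 10), (2, 11), (3, 8), (3, 10), (3, 11), (4, 7), (4, 10), (4, 11), (5, 6), (5, 11)]

/-- a tree of words -/
def q2 : List (ℕ × ℕ) :=
  [(0, 13), (1, 12), (1, 14), (1, 15), (2, 14), (2, 15), (3, 15), (5, 13), (5, 15), (6, 13), (7, 13), (8, 15), (9,
  13), (10, 14), (11, 12), (12, 3), (12, 13), (13, 1), (13, 12), (13, 14), (17, 12), (17, 14), (19, 14), (21, 14),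
  (24, 13)]

/-- the simple module of weight `4`, dimension 8 -/
def G4 : List (List (ℕ × ℕ)) :=
  [[(2, 4), (3, 5)], [(1, 2), (5, 6)], [(0, 1), (6, 7)], [(2, 3), (4, 5)], [(1, 4), (3, 6)], [(0, 2), (5, 7)], [(1,
  3), (4, 6)], [(0, 4), (3, 7)], [(1, 5), (2, 6)], [(0, 3), (4, 7)], [(0, 5), (2, 7)], [(0, 6), (1, 7)], [(4, 2), (5,
  3)], [(2, 1), (6, 5)], [(1, 0), (7, 6)], [(3, 2), (5, 4)]]

/-- a tree of words -/
def p4 : List (ℕ × ℕ) :=
  [(0, 2), (0, 5), (0, 7), (0, 9), (0, 10), (0, 11), (1, 11)]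

/-- a tree of words -/
def q4 : List (ℕ × ℕ) :=
  [(0, 14), (1, 13), (2, 12), (2, 15), (3, 15), (5, 13), (6, 14)]

/-- the simple module of weight `5`, dimension 48 -/
def G5 : List (List (ℕ × ℕ)) :=
  [[(0, 44), (5, 1), (6, 2), (8, 3), (9, 3), (12, 4), (13, 4), (25, 3), (25, 8), (25, 9), (26, 4), (26, 12), (26,
  13), (27, 15), (28, 16), (29, 17), (30, 18), (31, 19), (32, 20), (33, 21), (34, 22), (36, 23), (37, 23), (40, 24),
  (41, 24), (45, 23), (45, 36), (45, 37), (46, 24), (46, 40), (46, 41), (47, 43)], [(3, 2), (7, 5), (8, 6), (15, 6),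
  (15, 9), (16, 11), (17, 12), (18, 13), (19, 14), (20, 14), (23, 14), (23, 19), (23, 20), (24, 22), (27, 25), (29,
  26), (30, 26), (35, 26), (35, 29), (35, 30), (36, 31), (37, 32), (38, 33), (40, 34), (43, 34), (43, 41), (44, 42),
  (47, 46)], [(0, 47), (2, 1), (6, 5), (8, 7), (9, 7), (11, 7), (11, 8), (11, 9), (12, 10), (13, 10), (14, 10), (14,
  12), (14, 13), (16, 15), (19, 17), (20, 18), (22, 21), (28, 27), (31, 29), (32, 30), (34, 33), (36, 35), (37, 35),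
  (39, 35), (39, 36), (39, 37), (40, 38), (41, 38), (42, 38), (42, 40), (42, 41), (44, 43)], [(4, 3), (10, 7), (12,
  9), (13, 8), (14, 11), (18, 15), (20, 16), (21, 15), (21, 17), (22, 16), (22, 19), (24, 23), (26, 25), (30, 27),
  (32, 28), (33, 27), (33, 29), (34, 28), (34, 31), (38, 35), (40, 37), (41, 36), (42, 39), (46, 45)], [(0, 42), (7,
  1), (9, 2), (15, 3), (17, 4), (18, 4), (25, 6), (27, 2), (27, 8), (28, 11), (29, 13), (30, 12), (31, 14), (32, 14),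
  (35, 4), (35, 17), (35, 18), (36, 20), (37, 19), (38, 21), (41, 22), (43, 24), (45, 14), (45, 31), (45, 32), (46,
  34), (47, 22), (47, 40)], [(0, 46), (3, 1), (9, 5), (11, 6), (15, 7), (16, 5), (16, 8), (17, 10), (18, 10), (19,
  13), (20, 12), (23, 10), (23, 17), (23, 18), (24, 21), (28, 25), (31, 26), (32, 26), (36, 30), (37, 29), (39, 26),
  (39, 31), (39, 32), (41, 33), (42, 34), (43, 38), (44, 33), (44, 40)], [(4, 2), (10, 5), (13, 6), (17, 9), (18, 8),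
  (18, 9), (19, 11), (21, 6), (21, 12), (22, 14), (23, 16), (24, 11), (24, 20), (29, 25), (33, 26), (35, 27), (37,
  28), (38, 25), (38, 30), (40, 31), (40, 32), (41, 31), (43, 28), (43, 36), (44, 39), (47, 45)], [(0, 21), (0, 41),
  (8, 1), (11, 2), (16, 3), (19, 4), (20, 4), (25, 5), (27, 7), (28, 1), (28, 9), (29, 10), (30, 10), (31, 12), (32,
  13), (36, 17), (37, 18), (39, 4), (39, 19), (39, 20), (40, 21), (42, 22), (44, 24), (45, 10), (45, 29), (45, 30),
  (46, 33), (47, 38)], [(0, 39), (10, 1), (12, 2), (17, 3), (21, 4), (26, 6), (29, 8), (30, 8), (30, 9), (31, 11),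
  (33, 2), (33, 13), (34, 14), (35, 15), (36, 16), (38, 3), (38, 18), (40, 19), (41, 19), (41, 20), (43, 23), (45,
  28), (46, 11), (46, 32), (47, 16), (47, 37)], [(0, 45), (4, 1), (12, 5), (14, 6), (17, 7), (19, 8), (20, 8), (20,
  9), (21, 10), (22, 5), (22, 13), (23, 15), (24, 7), (24, 18), (31, 25), (34, 26), (36, 27), (39, 28), (40, 29),
  (41, 29), (41, 30), (42, 25), (42, 32), (43, 35), (44, 27), (44, 37)], [(0, 15), (0, 36), (13, 1), (14, 2), (19,
  3), (22, 4), (26, 5), (29, 7), (31, 9), (32, 8), (32, 9), (33, 10), (34, 1), (34, 12), (37, 15), (39, 16), (40,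
  17), (40, 18), (41, 17), (42, 3), (42, 20), (44, 23), (45, 27), (46, 7), (46, 30), (47, 35)], [(0, 6), (0, 31),
  (18, 1), (20, 2), (23, 3), (24, 4), (30, 5), (32, 6), (35, 7), (36, 9), (37, 8), (38, 10), (39, 11), (40, 13), (41,
  12), (42, 14), (43, 1), (43, 17), (44, 2), (44, 19), (45, 25), (46, 26), (47, 5), (47, 29)], [(1, 5), (2, 6), (3,
  8), (3, 9), (3, 25), (4, 12), (4, 13), (4, 26), (8, 25), (9, 25), (12, 26), (13, 26), (15, 27), (16, 28), (17, 29),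
  (18, 30), (19, 31), (20, 32), (21, 33), (22, 34), (23, 36), (23, 37), (23, 45), (24, 40), (24, 41), (24, 46), (36,
  45), (37, 45), (40, 46), (41, 46), (43, 47), (44, 0)], [(2, 3), (5, 7), (6, 9), (6, 15), (8, 15), (11, 16), (12,
  17), (13, 18), (14, 19), (14, 20), (14, 23), (19, 23), (20, 23), (22, 24), (25, 27), (26, 29), (26, 30), (26, 35),
  (29, 35), (30, 35), (31, 36), (32, 37), (33, 38), (34, 41), (34, 43), (40, 43), (42, 44), (46, 47)], [(1, 2), (5,
  6), (7, 8), (7, 9), (7, 11), (8, 11), (9, 11), (10, 12), (10, 13), (10, 14), (12, 14), (13, 14), (15, 16), (17,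
  19), (18, 20), (21, 22), (27, 28), (29, 31), (30, 32), (33, 34), (35, 36), (35, 37), (35, 39), (36, 39), (37, 39),
  (38, 40), (38, 41), (38, 42), (40, 42), (41, 42), (43, 44), (47, 0)], [(3, 4), (7, 10), (8, 13), (9, 12), (11, 14),
  (15, 17), (15, 21), (16, 19), (16, 22), (18, 21), (20, 22), (23, 24), (25, 26), (27, 29), (27, 33), (28, 31), (28,
  34), (30, 33), (32, 34), (35, 38), (36, 41), (37, 40), (39, 42), (45, 46)]]

/-- a tree of words -/
def p5 : List (ℕ × ℕ) :=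
  [(0, 0), (0, 2), (0, 4), (0, 5), (0, 7), (0, 8), (0, 9), (0, 10), (0, 11), (1, 2), (1, 5), (1, 7), (1, 9), (1, 10),
  (1, 11), (2, 4), (2, 7), (2, 8), (2, 10), (2, 11), (3, 2), (3, 5), (3, 7), (3, 9), (3, 10), (3, 11), (4, 8), (4,
  10), (4, 11), (5, 3), (5, 6), (5, 8), (5, 9), (6, 2), (6, 5), (6, 9), (6, 10), (6, 11), (8, 1), (10, 11), (11, 3),
  (11, 8), (11, 10), (12, 6), (12, 11), (13, 4), (16, 10)]

/-- a tree of words -/
def q5 : List (ℕ × ℕ) :=
  [(0, 12), (0, 14), (1, 13), (1, 14), (2, 13), (3, 14), (3, 15), (4, 13), (5, 12), (5, 15), (6, 2), (6, 13), (6,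
  15), (8, 1), (8, 12), (8, 15), (9, 15), (11, 15), (12, 12), (12, 15), (13, 13), (14, 15), (15, 15), (16, 3), (17,
  13), (18, 13), (19, 15), (20, 3), (20, 13), (21, 1), (21, 12), (23, 3), (23, 13), (25, 1), (25, 14), (27, 3), (27,
  13), (29, 12), (30, 12), (31, 0), (33, 14), (36, 13), (37, 1), (37, 12), (37, 14), (38, 0), (44, 14)]

/-- the simple module of weight `8`, dimension 8 -/
def G8 : List (List (ℕ × ℕ)) :=
  [[(2, 4), (3, 5)], [(1, 2), (5, 6)], [(2, 3), (4, 5)], [(0, 1), (6, 7)], [(1, 4), (3, 6)], [(1, 3), (4, 6)], [(0,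
  2), (5, 7)], [(1, 5), (2, 6)], [(0, 4), (3, 7)], [(0, 3), (4, 7)], [(0, 5), (2, 7)], [(0, 6), (1, 7)], [(4, 2), (5,
  3)], [(2, 1), (6, 5)], [(3, 2), (5, 4)], [(1, 0), (7, 6)]]

/-- a tree of words -/
def p8 : List (ℕ × ℕ) :=
  [(0, 3), (0, 6), (0, 8), (0, 9), (0, 10), (0, 11), (1, 11)]

/-- a tree of words -/
def q8 : List (ℕ × ℕ) :=
  [(0, 15), (1, 13), (2, 12), (2, 14), (3, 14), (5, 13), (6, 15)]

/-- the simple module of weight `9`, dimension 48 -/
def G9 : List (List (ℕ × ℕ)) :=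
  [[(0, 44), (5, 1), (6, 2), (9, 3), (11, 4), (25, 3), (25, 10), (26, 4), (26, 12), (27, 15), (28, 16), (29, 17),
  (30, 18), (31, 19), (32, 20), (33, 21), (34, 22), (37, 23), (38, 23), (39, 24), (40, 24), (45, 23), (45, 37), (45,
  38), (46, 24), (46, 39), (46, 40), (47, 43)], [(3, 2), (7, 5), (9, 6), (10, 6), (15, 6), (15, 9), (15, 10), (16,
  11), (17, 12), (18, 13), (20, 14), (21, 14), (23, 14), (23, 20), (23, 21), (24, 22), (27, 25), (28, 26), (35, 26),
  (35, 29), (36, 31), (37, 32), (38, 33), (39, 34), (43, 34), (43, 40), (44, 42), (47, 46)], [(4, 3), (8, 7), (11,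
  9), (12, 10), (14, 13), (16, 15), (17, 15), (19, 15), (19, 16), (19, 17), (20, 18), (22, 18), (22, 21), (24, 23),
  (26, 25), (28, 27), (29, 27), (31, 27), (31, 28), (31, 29), (32, 30), (34, 30), (34, 33), (36, 35), (39, 37), (40,
  38), (42, 41), (46, 45)], [(0, 47), (2, 1), (6, 5), (9, 7), (11, 8), (13, 7), (13, 10), (14, 8), (14, 12), (18,
  15), (20, 16), (21, 16), (21, 17), (22, 19), (30, 27), (32, 28), (33, 28), (33, 29), (34, 31), (37, 35), (38, 35),
  (39, 36), (40, 36), (41, 35), (41, 37), (41, 38), (42, 36), (42, 39), (42, 40), (44, 43)], [(0, 42), (7, 1), (10,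
  2), (15, 3), (16, 4), (25, 6), (27, 2), (27, 9), (28, 11), (28, 12), (29, 12), (30, 13), (32, 14), (33, 14), (35,
  4), (35, 17), (36, 19), (37, 21), (38, 20), (40, 22), (43, 24), (45, 14), (45, 32), (45, 33), (46, 34), (47, 22),
  (47, 39)], [(4, 2), (8, 5), (11, 6), (12, 6), (16, 10), (17, 9), (19, 6), (19, 11), (19, 12), (21, 13), (22, 14),
  (23, 18), (24, 13), (24, 20), (29, 25), (31, 26), (35, 27), (36, 25), (36, 28), (37, 30), (39, 32), (39, 33), (40,
  33), (43, 30), (43, 38), (44, 41), (47, 45)], [(0, 46), (3, 1), (10, 5), (13, 6), (15, 7), (16, 8), (18, 5), (18,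
  9), (20, 11), (20, 12), (21, 11), (23, 8), (23, 17), (24, 19), (30, 25), (32, 26), (33, 26), (37, 28), (37, 29),
  (38, 28), (40, 31), (41, 26), (41, 32), (41, 33), (42, 34), (43, 36), (44, 31), (44, 39)], [(0, 41), (8, 1), (12,
  2), (17, 3), (19, 4), (26, 6), (28, 10), (29, 9), (29, 10), (31, 2), (31, 11), (33, 13), (34, 14), (35, 15), (36,
  3), (36, 16), (38, 18), (39, 21), (40, 20), (40, 21), (43, 23), (45, 30), (46, 13), (46, 32), (47, 18), (47, 37)],
  [(0, 19), (0, 40), (9, 1), (10, 1), (13, 2), (18, 3), (20, 4), (21, 4), (25, 5), (27, 7), (28, 8), (30, 1), (30,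
  9), (30, 10), (32, 11), (33, 11), (33, 12), (37, 16), (38, 16), (38, 17), (39, 19), (41, 4), (41, 20), (41, 21),
  (42, 22), (44, 24), (45, 8), (45, 29), (46, 31), (47, 36)], [(0, 45), (4, 1), (12, 5), (14, 6), (17, 7), (19, 8),
  (20, 10), (21, 9), (22, 5), (22, 11), (23, 15), (24, 7), (24, 16), (33, 25), (34, 26), (38, 27), (39, 28), (39,
  29), (40, 29), (41, 30), (42, 25), (42, 32), (43, 35), (44, 27), (44, 37)], [(0, 15), (0, 38), (11, 1), (12, 1),
  (14, 2), (21, 3), (22, 4), (26, 5), (29, 7), (31, 8), (32, 10), (33, 9), (33, 10), (34, 1), (34, 11), (34, 12),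
  (37, 15), (39, 17), (40, 16), (40, 17), (41, 18), (42, 3), (42, 20), (44, 23), (45, 27), (46, 7), (46, 28), (47,
  35)], [(0, 6), (0, 33), (16, 1), (17, 1), (20, 2), (23, 3), (24, 4), (28, 5), (29, 5), (32, 6), (35, 7), (36, 8),
  (37, 9), (38, 9), (38, 10), (39, 11), (40, 11), (40, 12), (41, 13), (42, 14), (43, 1), (43, 16), (43, 17), (44, 2),
  (44, 21), (45, 25), (46, 26), (47, 5), (47, 28), (47, 29)], [(1, 5), (2, 6), (3, 10), (3, 25), (4, 12), (4, 26),
  (9, 25), (11, 26), (15, 27), (16, 28), (17, 29), (18, 30), (19, 31), (20, 32), (21, 33), (22, 34), (23, 37), (23,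
  38), (23, 45), (24, 39), (24, 40), (24, 46), (37, 45), (38, 45), (39, 46), (40, 46), (43, 47), (44, 0)], [(2, 3),
  (5, 7), (6, 9), (6, 10), (6, 15), (9, 15), (10, 15), (11, 16), (12, 17), (13, 18), (14, 20), (14, 21), (14, 23),
  (20, 23), (21, 23), (22, 24), (25, 27), (26, 29), (26, 35), (28, 35), (31, 36), (32, 37), (33, 38), (34, 40), (34,
  43), (39, 43), (42, 44), (46, 47)], [(3, 4), (7, 8), (9, 11), (10, 12), (13, 14), (15, 16), (15, 17), (15, 19),
  (16, 19), (17, 19), (18, 21), (18, 22), (20, 22), (23, 24), (25, 26), (27, 28), (27, 29), (27, 31), (28, 31), (29,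
  31), (30, 33), (30, 34), (32, 34), (35, 36), (37, 39), (38, 40), (41, 42), (45, 46)], [(1, 2), (5, 6), (7, 10), (7,
  13), (8, 12), (8, 14), (9, 13), (11, 14), (15, 18), (16, 20), (17, 20), (17, 21), (19, 22), (27, 30), (28, 32),
  (29, 32), (29, 33), (31, 34), (35, 37), (35, 38), (35, 41), (36, 39), (36, 40), (36, 42), (37, 41), (38, 41), (39,
  42), (40, 42), (43, 44), (47, 0)]]

/-- a tree of words -/
def p9 : List (ℕ × ℕ) :=
  [(0, 0), (0, 3), (0, 4), (0, 6), (0, 7), (0, 8), (0, 9), (0, 10), (0, 11), (1, 3), (1, 6), (1, 8), (1, 9), (1, 10),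
  (1, 11), (2, 4), (2, 7), (2, 8), (2, 10), (2, 11), (3, 3), (3, 6), (3, 8), (3, 9), (3, 10), (3, 11), (4, 7), (4,
  10), (4, 11), (5, 3), (5, 6), (5, 8), (5, 9), (5, 10), (5, 11), (6, 2), (6, 5), (6, 9), (8, 1), (10, 11), (11, 2),
  (11, 7), (11, 10), (12, 5), (12, 11), (13, 4), (16, 10)]

/-- a tree of words -/
def q9 : List (ℕ × ℕ) :=
  [(0, 12), (0, 15), (1, 13), (1, 15), (2, 13), (3, 14), (3, 15), (4, 13), (5, 12), (5, 14), (6, 15), (7, 3), (7,
  13), (8, 1), (8, 12), (8, 14), (9, 14), (11, 3), (11, 13), (13, 12), (13, 14), (14, 14), (15, 14), (16, 2), (17,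
  13), (18, 13), (19, 1), (19, 12), (19, 14), (20, 14), (21, 2), (23, 2), (23, 13), (25, 1), (25, 15), (27, 12), (28,
  0), (28, 14), (30, 2), (30, 13), (33, 15), (37, 14), (38, 13), (39, 13), (40, 1), (40, 15), (43, 15)]

/-- the simple module of weight `12`, dimension 48 -/
def G12 : List (List (ℕ × ℕ)) :=
  [[(15, 5), (16, 6), (17, 7), (18, 8), (19, 9), (20, 10), (21, 11), (23, 12), (25, 13), (27, 14), (35, 11), (35,
  22), (36, 12), (36, 24), (37, 13), (37, 26), (38, 14), (38, 28), (39, 29), (40, 30), (41, 31), (42, 32), (43, 33),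
  (44, 34)], [(5, 2), (6, 3), (7, 4), (11, 4), (11, 8), (12, 9), (13, 10), (21, 17), (22, 18), (23, 19), (24, 19),
  (25, 20), (26, 20), (29, 19), (29, 23), (29, 24), (30, 20), (30, 25), (30, 26), (31, 27), (32, 28), (39, 36), (40,
  37), (41, 38), (45, 38), (45, 42), (46, 43), (47, 44)], [(0, 47), (2, 1), (4, 3), (7, 6), (8, 6), (9, 6), (9, 7),
  (9, 8), (12, 11), (14, 13), (17, 16), (18, 16), (19, 16), (19, 17), (19, 18), (23, 21), (24, 22), (27, 25), (28,
  26), (31, 30), (32, 30), (33, 30), (33, 31), (33, 32), (36, 35), (38, 37), (41, 40), (42, 40), (43, 40), (43, 41),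
  (43, 42), (46, 45)], [(0, 46), (3, 1), (4, 2), (7, 5), (8, 5), (10, 5), (10, 7), (10, 8), (13, 11), (14, 12), (17,
  15), (18, 15), (20, 15), (20, 17), (20, 18), (25, 21), (26, 22), (27, 23), (28, 24), (31, 29), (32, 29), (34, 29),
  (34, 31), (34, 32), (37, 35), (38, 36), (41, 39), (42, 39), (44, 39), (44, 41), (44, 42), (47, 45)], [(15, 2), (16,
  3), (17, 4), (21, 7), (21, 8), (22, 8), (24, 9), (26, 10), (29, 12), (30, 13), (31, 14), (35, 4), (35, 18), (36,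
  19), (37, 20), (39, 9), (39, 23), (40, 10), (40, 25), (41, 27), (41, 28), (42, 28), (45, 14), (45, 32), (46, 33),
  (47, 34)], [(0, 44), (5, 1), (8, 3), (9, 4), (11, 6), (12, 3), (12, 7), (14, 10), (21, 16), (22, 16), (23, 18),
  (24, 17), (27, 20), (28, 20), (29, 16), (29, 21), (29, 22), (31, 26), (32, 25), (33, 20), (33, 27), (33, 28), (39,
  35), (42, 37), (43, 38), (45, 40), (46, 37), (46, 41)], [(0, 43), (6, 1), (8, 2), (10, 4), (11, 5), (13, 2), (13,
  7), (14, 9), (21, 15), (22, 15), (25, 18), (26, 17), (27, 19), (28, 19), (30, 15), (30, 21), (30, 22), (31, 24),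
  (32, 23), (34, 19), (34, 27), (34, 28), (40, 35), (42, 36), (44, 38), (45, 39), (47, 36), (47, 41)], [(0, 34), (15,
  1), (18, 3), (19, 4), (22, 6), (23, 7), (23, 8), (24, 7), (28, 10), (29, 11), (32, 13), (33, 14), (35, 16), (36,
  3), (36, 17), (38, 20), (39, 6), (39, 21), (41, 26), (42, 25), (42, 26), (43, 10), (43, 27), (45, 30), (46, 13),
  (46, 31)], [(0, 33), (16, 1), (18, 2), (20, 4), (22, 5), (25, 7), (25, 8), (26, 7), (28, 9), (30, 11), (32, 12),
  (34, 14), (35, 15), (37, 2), (37, 17), (38, 19), (40, 5), (40, 21), (41, 24), (42, 23), (42, 24), (44, 9), (44,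
  27), (45, 29), (47, 12), (47, 31)], [(0, 35), (0, 42), (7, 1), (9, 2), (10, 3), (12, 5), (13, 6), (14, 1), (14, 8),
  (23, 15), (24, 15), (25, 16), (26, 16), (27, 17), (28, 18), (31, 21), (32, 22), (33, 15), (33, 23), (33, 24), (34,
  16), (34, 25), (34, 26), (41, 35), (43, 36), (44, 37), (46, 39), (47, 40)], [(0, 11), (0, 32), (17, 1), (19, 2),
  (20, 3), (24, 5), (26, 6), (27, 7), (27, 8), (28, 8), (31, 11), (33, 12), (34, 13), (36, 15), (37, 16), (38, 1),
  (38, 18), (41, 21), (41, 22), (42, 22), (43, 5), (43, 23), (44, 6), (44, 25), (46, 29), (47, 30)], [(0, 4), (0,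
  28), (21, 1), (23, 2), (25, 3), (27, 4), (29, 5), (30, 6), (31, 7), (32, 8), (33, 9), (34, 10), (39, 15), (40, 16),
  (41, 17), (42, 18), (43, 19), (44, 20), (45, 1), (45, 22), (46, 2), (46, 24), (47, 3), (47, 26)], [(5, 15), (6,
  16), (7, 17), (8, 18), (9, 19), (10, 20), (11, 22), (11, 35), (12, 24), (12, 36), (13, 26), (13, 37), (14, 28),
  (14, 38), (21, 35), (23, 36), (25, 37), (27, 38), (29, 39), (30, 40), (31, 41), (32, 42), (33, 43), (34, 44)], [(2,
  5), (3, 6), (4, 8), (4, 11), (7, 11), (9, 12), (10, 13), (17, 21), (18, 22), (19, 23), (19, 24), (19, 29), (20,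
  25), (20, 26), (20, 30), (23, 29), (24, 29), (25, 30), (26, 30), (27, 31), (28, 32), (36, 39), (37, 40), (38, 42),
  (38, 45), (41, 45), (43, 46), (44, 47)], [(1, 2), (3, 4), (6, 7), (6, 8), (6, 9), (7, 9), (8, 9), (11, 12), (13,
  14), (16, 17), (16, 18), (16, 19), (17, 19), (18, 19), (21, 23), (22, 24), (25, 27), (26, 28), (30, 31), (30, 32),
  (30, 33), (31, 33), (32, 33), (35, 36), (37, 38), (40, 41), (40, 42), (40, 43), (41, 43), (42, 43), (45, 46), (47,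
  0)], [(1, 3), (2, 4), (5, 7), (5, 8), (5, 10), (7, 10), (8, 10), (11, 13), (12, 14), (15, 17), (15, 18), (15, 20),
  (17, 20), (18, 20), (21, 25), (22, 26), (23, 27), (24, 28), (29, 31), (29, 32), (29, 34), (31, 34), (32, 34), (35,
  37), (36, 38), (39, 41), (39, 42), (39, 44), (41, 44), (42, 44), (45, 47), (46, 0)]]

/-- a tree of words -/
def p12 : List (ℕ × ℕ) :=
  [(0, 2), (0, 3), (0, 5), (0, 6), (0, 7), (0, 8), (0, 9), (0, 10), (0, 11), (1, 3), (1, 6), (1, 8), (1, 9), (1, 10),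
  (1, 11), (2, 5), (2, 7), (2, 9), (2, 10), (2, 11), (3, 3), (3, 6), (3, 8), (3, 9), (3, 10), (3, 11), (4, 7), (4,
  10), (4, 11), (5, 3), (5, 6), (5, 8), (5, 9), (5, 10), (5, 11), (6, 9), (7, 0), (7, 4), (8, 1), (10, 11), (11, 0),
  (11, 7), (11, 10), (12, 5), (13, 4), (13, 11), (16, 10)]

/-- a tree of words -/
def q12 : List (ℕ × ℕ) :=
  [(0, 14), (0, 15), (1, 13), (1, 15), (2, 13), (3, 12), (3, 15), (4, 13), (5, 12), (5, 14), (6, 15), (7, 3), (7,
  13), (8, 1), (8, 12), (8, 14), (9, 14), (11, 3), (11, 13), (13, 12), (13, 14), (14, 12), (15, 0), (15, 14), (17,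
  13), (18, 13), (19, 1), (19, 12), (19, 14), (20, 0), (20, 14), (23, 14), (24, 13), (25, 1), (25, 15), (27, 14),
  (28, 14), (29, 2), (30, 14), (31, 13), (33, 15), (37, 2), (37, 13), (39, 13), (40, 1), (40, 15), (43, 15)]

/-- the type -/
def ty : Ty :=
  ⟨4, 12, [[([], []), ([1], [1, 4]), ([2], [2]), ([3], [3]), ([1, 4], [4]), ([5], [5, 7]), ([6], [6, 8]), ([5, 7],
  [7]), ([6, 8], [8]), ([9], [9, 10]), ([9, 10], [10]), ([11], [11])], [([0], [0, 4]), ([], []), ([2], [2, 5]), ([3],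
  [3, 6]), ([0, 4], [4]), ([2, 5], [5]), ([3, 6], [6]), ([7], [7]), ([8], [8]), ([9], [9]), ([10], [10, 11]), ([10,
  11], [11])], [([0], [0]), ([1], [1, 5]), ([], []), ([3], [3]), ([4], [4, 7]), ([1, 5], [5]), ([6], [6, 9]), ([4,
  7], [7]), ([8], [8, 10]), ([6, 9], [9]), ([8, 10], [10]), ([11], [11])], [([0], [0]), ([1], [1, 6]), ([2], [2]),
  ([], []), ([4], [4, 8]), ([5], [5, 9]), ([1, 6], [6]), ([7], [7, 10]), ([4, 8], [8]), ([5, 9], [9]), ([7, 10],
  [10]), ([11], [11])]]⟩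

/-- the positive root elements -/
def pos : List (List ℕ) :=
  [[12], [13], [14], [15], [12, 13, 12, 13], [13, 14, 13, 14], [13, 15, 13, 15], [0, 12, 13, 14, 13, 12, 0, 14], [0,
  12, 13, 15, 13, 12, 0, 15], [2, 14, 13, 15, 13, 14, 2, 15], [2, 14, 15, 0, 12, 13, 15, 13, 12, 0, 14, 2], [1, 0, 5,
  13, 12, 14, 13, 15, 13, 12, 14, 13, 5, 0, 1]]

end Cfsg.Agent.E82.Mach.D4
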