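import Cfsg.Agent.E82.Mach.C4Chk
import Cfsg.Agent.E82.Mach.Soc
import Cfsg.Agent.E82.Mach.E2
import Cfsg.Agent.E82.Soc.S8d

/-!
# S3369 : the row `Sp₈(2)` (helper38)
-/

set_option autoImplicit false
set_option maxRecDepth 100000

namespace Cfsg.Agent.E82.Mach.C4

open Module
open Cfsg.Agent.H939.L64 (E2 L2)
open Cfsg.Agent.E82.Soc (M8 Has yw row8_of)

theorem sum16 (f : ℕ → ℕ) : ∑ J ∈ Finset.range 16, f J =
    f 0 + f 1 + f 2 + f 3 + f 4 + f 5 + f 6 + f 7 + f 8 + f 9 + f 10 + f 11 + f 12 + f 13 + f 14 + f 15 := by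
  simp only [Finset.sum_range_succ, Finset.sum_range_zero, zero_add]

theorem arith {n : ℕ → ℕ} {a b c z g : ℕ} (ha : a = 248 ∨ a = 134 ∨ a = 92 ∨ a = 86 ∨ a = 80)
    (hb : b = 248 ∨ b = 134 ∨ b = 92 ∨ b = 86 ∨ b = 80) (hc : c = 248 ∨ c = 134 ∨ c = 92 ∨ c = 86 ∨ c = 80)
    (hz : z = 248 ∨ z = 86)
    (e0 : a = n 0 * 1 + n 1 * 6 + n 2 * 14 + n 3 * 76 + n 4 * 20 + n 5 * 90 + n 6 * 249 + n 7 * 249 + n 8 * 0 + n 9 * 16 + n 10 * 249 + n 11 * 249 + n 12 * 249 + n 13 * 249 + n 14 * 249 + n 15 * 249)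
    (e1 : b = n 0 * 1 + n 1 * 4 + n 2 * 8 + n 3 * 52 + n 4 * 16 + n 5 * 78 + n 6 * 249 + n 7 * 249 + n 8 * 8 + n 9 * 48 + n 10 * 249 + n 11 * 249 + n 12 * 249 + n 13 * 249 + n 14 * 249 + n 15 * 249)
    (e2 : c = n 0 * 1 + n 1 * 0 + n 2 * 14 + n 3 * 40 + n 4 * 8 + n 5 * 90 + n 6 * 249 + n 7 * 249 + n 8 * 6 + n 9 * 40 + n 10 * 249 + n 11 * 249 + n 12 * 249 + n 13 * 249 + n 14 * 249 + n 15 * 249)
    (e3 : z = n 0 * 1 + n 1 * 2 + n 2 * 8 + n 3 * 52 + n 4 * 18 + n 5 * 84 + n 6 * 249 + n 7 * 249 + n 8 * 4 + n 9 * 44 + n 10 * 249 + n 11 * 249 + n 12 * 249 + n 13 * 249 + n 14 * 249 + n 15 * 249)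
    (e5 : g = n 0 * 1 + n 1 * 0 + n 2 * 2 + n 3 * 8 + n 4 * 0 + n 5 * 18 + n 6 * 249 + n 7 * 249 + n 8 * 2 + n 9 * 8 + n 10 * 249 + n 11 * 249 + n 12 * 249 + n 13 * 249 + n 14 * 249 + n 15 * 249)
    (e6 : 248 = n 0 * 1 + n 1 * 8 + n 2 * 26 + n 3 * 160 + n 4 * 48 + n 5 * 246 + n 6 * 249 + n 7 * 249 + n 8 * 16 + n 9 * 128 + n 10 * 249 + n 11 * 249 + n 12 * 249 + n 13 * 249 + n 14 * 249 + n 15 * 249)
    (hp : g ≤ n 0 * 0 + n 1 * 2 + n 2 * 3 + n 3 * 8 + n 4 * 1 + n 5 * 19 + n 6 * 0 + n 7 * 0 + n 8 * 2 + n 9 * 8 + n 10 * 0 + n 11 * 0 + n 12 * 0 + n 13 * 0 + n 14 * 0 + n 15 * 0) :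
    a = 80 ∨ a = 134 ∧ c = 80 ∧ ∀ J < 16, 1 ≤ n J → J = 0 ∨ J = 1 ∨ J = 2 ∨ J = 4 := by
  have h0 : n 6 = 0 ∧ n 7 = 0 ∧ n 10 = 0 ∧ n 11 = 0 ∧ n 12 = 0 ∧ n 13 = 0 ∧ n 14 = 0 ∧ n 15 = 0 := by omega
  obtain ⟨z6, z7, z10, z11, z12, z13, z14, z15⟩ := h0
  rw [z6, z7, z10, z11, z12, z13, z14, z15] at e0 e1 e2 e3 e5 e6 hp
  have h1 : a = 80 ∨ a = 134 ∧ c = 80 ∧ n 3 = 0 ∧ n 5 = 0 ∧ n 8 = 0 ∧ n 9 = 0 := by
    rcases hz with rfl | rfl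
    · omega
    · rcases ha with rfl | rfl | rfl | rfl | rfl
      · omega
      · rcases hb with rfl | rfl | rfl | rfl | rfl <;> rcases hc with rfl | rfl | rfl | rfl | rfl <;> omega
      · rcases hb with rfl | rfl | rfl | rfl | rfl <;> rcases hc with rfl | rfl | rfl | rfl | rfl <;> omega
      · rcases hb with rfl | rfl | rfl | rfl | rfl <;> rcases hc with rfl | rfl | rfl | rfl | rfl <;> omega
      · exact Or.inl rfl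
  rcases h1 with h1 | ⟨h1, h2, h3⟩
  · exact Or.inl h1
  · refine Or.inr ⟨h1, h2, fun J hJ h => ?_⟩
    interval_cases J <;> omega

theorem cf3 {x : E2} (h : x ^ 3 = 1) : cf x = 248 ∨ cf x = 134 ∨ cf x = 92 ∨ cf x = 86 ∨ cf x = 80 := by
  by_cases e : x = 1
  · rw [e]; exact Or.inl fd_one
  · exact Or.inr (fd3 h e)

theorem cf9 {x : E2} (h : x ^ 9 = 1) : cf (x ^ 3) = 248 ∨ cf (x ^ 3) = 86 := by
  by_cases e : x ^ 3 = 1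
  · rw [e]; exact Or.inl fd_one
  · exact Or.inr (fd9 h e).1

theorem rows_of (f : Sp8 →* E2) (hf : ¬ Fixd f) {n : ℕ → ℕ}
    (h : Sol C 16 (fun J k => (rows.getD J []).getD (min k C.cl.length) 0) (fun J => zs.getD J 0) (opE f (sg 4 G1) 20) n) :
    cf (f (pw (sg 4 G1) (yw 3))) = 80 ∨ cf (f (pw (sg 4 G1) (yw 3))) = 134 ∧
      cf (f (pw (sg 4 G1) (yw 0 ++ yw 1 ++ yw 2 ++ yw 3))) = 80 ∧ ∀ J < 16, 1 ≤ n J → J = 0 ∨ J = 1 ∨ J = 2 ∨ J = 4 := by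
  have ha : Good (okG 8 G1) 20 (opE f (sg 4 G1) 20) := nat0.good (tauE f)
  have hR : C.inR 20 = true := by decide +kernel
  have e : ∀ k, cf (f (pw (sg 4 G1) (C.cl.getD k ([], 1)).1)) = _ := fun k =>
    ((cf_wd f _ (C.cl_lt hR k)).symm.trans (h.1 k)).trans (sum16 _)
  have ho : ∀ (w : List ℕ) (k : ℕ), okG 8 G1 (wpow w k) [] = true → f (pw (sg 4 G1) w) ^ k = 1 := fun w k hw => by
    rw [← map_pow, ← pw_wpow, nat0.pw_eq hw, pw_nil, map_one]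
  have hp : cf (f (pw (sg 4 G1) C.g)) ≤ ∑ J ∈ Finset.range 16, n J * zs.getD J 0 := by
    rcases press gen_ok ha with ⟨v, hv, h3⟩ | h3
    · exact absurd (fixd_of_letters (fun K hK => gen hK) hv h3) hf
    · rw [cf_wd f _ (inR_lt (by decide : inR 20 C.g = true))] at h3
      exact h3.trans h.2
  rw [sum16] at hp
  have h9 := cf9 (ho (C.cl.getD 4 ([], 1)).1 9 (by decide +kernel))
  rw [← map_pow, ← pw_wpow] at h9
  have e6 := e 6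
  rw [show (C.cl.getD 6 ([], 1)).1 = [] from rfl, pw_nil, map_one, fd_one] at e6
  exact arith (cf3 (ho (C.cl.getD 0 ([], 1)).1 3 (by decide +kernel))) (cf3 (ho (C.cl.getD 1 ([], 1)).1 3 (by decide +kernel)))
    (cf3 (ho (C.cl.getD 2 ([], 1)).1 3 (by decide +kernel))) h9 (e 0) (e 1) (e 2) (e 3) (e 5) e6 hp

theorem m8 : M8 := by
  refine ⟨sg 4 G1, rhoSp 4, nat0, gen fun j hj => Subgroup.subset_closure ⟨j, hj, rfl⟩, fun f _ => ?_⟩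
  by_cases hf : Fixd f
  · exact Or.inl hf
  have ha : Good (okG 8 G1) 20 (opE f (sg 4 G1) 20) := nat0.good (tauE f)
  obtain ⟨n, hn⟩ := sol chk_ok (tab_of ex_ok ent_all) 248 L2 _ finrank_L2 le_rfl ha
  rcases rows_of f hf hn with h1 | ⟨h1, h2, -⟩
  · exact Or.inr (Or.inl h1)
  refine Or.inr (Or.inr ⟨h1, h2, tauE f, tauE_apply f, fun U hU h0 => ?_⟩)
  obtain ⟨W, hW, hle, hs, J, hJ, ⟨x, l, hM⟩, m, hm, h3⟩ := soc ex_ok chk_ok ent_all ha finrank_L2.le hU h0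
  rcases rows_of f hf h3 with h4 | ⟨-, -, h4⟩
  · rw [h1] at h4
    exact absurd h4 (by decide)
  rcases h4 J hJ hm with rfl | rfl | rfl | rfl
  · obtain ⟨e, e1, e2, -⟩ := emb_of syn pm0 sp0 ds0 hs hM
    obtain ⟨v, hv, e3⟩ := fix_of_zero pm0 (k := 20) (by decide +kernel) e1 e2
    exact absurd (fixd_of_letters (fun K hK => gen hK) hv e3) hf
  · obtain ⟨e, e1, e2, e3⟩ := emb_of syn pm1 sp1 ds1 hs hM
    exact Or.inl ⟨e, e1, e2, fun y => hle (e3 y)⟩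
  · obtain ⟨e, e1, e2, e3⟩ := emb_of syn pm2 sp2 ds2 hs hM
    exact Or.inr (Or.inl ⟨e, e1, e2, fun y => hle (e3 y)⟩)
  · obtain ⟨e, e1, e2, e3⟩ := emb_of syn pm4 sp4 ds4 hs hM
    exact Or.inr (Or.inr ⟨e, e1, e2, fun y => hle (e3 y)⟩)

/-- **the row `Sp₈(2)`** -/
theorem rowSp8 : ROW Sp8 := row8_of m8

end Cfsg.Agent.E82.Mach.C4
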